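import Cfsg.Agent.Lib.Grp.OddFix.Cases
import Cfsg.Agent.Lib.Grp.Frattini

/-!
The fixed points of an automorphism of odd prime order in `[H, x]`.
-/

set_option linter.unusedSectionVars false
set_option linter.style.haveILetI false
set_option maxHeartbeats 800000

namespace Cfsg.Agent.Grp.OddFix

universe u

open scoped commutatorElement

variable {p : ℕ} [hp : Fact p.Prime]

theorem comP_inf_fx_le (hp2 : p ≠ 2) (n : ℕ) : ∀ (H : Type u) [Group H] [Finite H],
    Nat.card H = n → Group.IsSolvable H → ∀ x : MulAut H, x ^ p = 1 → (Nat.card H).Coprime p →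
      comP x ⊤ ⊓ fx x ≤ gen x := by
  induction n using Nat.strong_induction_on with
  | _ n ih =>
  intro H _ _ hn hsolv x hx hcop
  subst hn
  -- proper invariant subgroups
  have hsub : ∀ S : Subgroup H, Inv x S → S ≠ ⊤ → comP x S ⊓ fx x ≤ gen x := by
    intro S hS hne
    let f : S → S := fun y => ⟨x y, hS y y.2⟩
    let xS : MulAut S := MulEquiv.ofBijective
      ({ toFun := f, map_one' := Subtype.ext (map_one x),
         map_mul' := fun a b => Subtype.ext (map_mul x _ _) } : S →* S)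
      (Finite.injective_iff_bijective.mp fun a b hab =>
        Subtype.ext (x.injective (congrArg Subtype.val hab)))
    have hf : ∀ y : S, S.subtype (xS y) = x (S.subtype y) := fun y => rfl
    have hxS : xS ^ p = 1 := by
      ext y
      have h := map_pow_apply S.subtype hf p y
      rw [hx] at h
      exact h
    haveI := hsolv
    have hlt : Nat.card S < Nat.card H :=
      lt_of_le_of_ne (Subgroup.card_le_card_group S) fun e => hne (Subgroup.eq_top_of_card_eq S e)
    have key := ih _ hlt S rfl inferInstance xS hxS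
      (hcop.coprime_dvd_left (Subgroup.card_subgroup_dvd_card S))
    rintro y ⟨hy, hyf⟩
    have hyS : y ∈ S := comP_le hS hy
    have hmem : (⟨y, hyS⟩ : S) ∈ comP xS ⊤ := by
      have : comP x S ≤ (comP xS ⊤).map S.subtype := by
        rw [Subgroup.closure_le]
        rintro _ ⟨h, hh, i, rfl⟩
        exact ⟨_, c_mem_comP (Subgroup.mem_top (⟨h, hh⟩ : S)) i, by
          rw [map_mul, map_inv, map_pow_apply S.subtype hf]; rfl⟩
      obtain ⟨z, hz, hze⟩ := this hy
      rwa [show (⟨y, hyS⟩ : S) = z from Subtype.ext hze.symm]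
    have hg := key ⟨hmem, Subtype.ext hyf⟩
    have hle : (gen xS).map S.subtype ≤ gen x := by
      rw [Subgroup.map_iSup, iSup_le_iff]
      rintro h _ ⟨z, hz, rfl⟩
      refine le_gen (h := (h : H)) ?_ ?_
      · exact (map_dd S.subtype hf h).le ⟨z, hz.1, rfl⟩
      · have := congrArg Subtype.val (mem_fx.mp hz.2)
        exact this
    exact hle ⟨_, hg, rfl⟩
  by_cases hK : comP x ⊤ = ⊤
  swap
  · have h := hsub _ (inv_comP x ⊤) hK
    rwa [comP_comP hx hcop (fun y _ => Subgroup.mem_top (x y))] at h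
  -- quotients
  have hquot : ∀ W : Subgroup H, W.Normal → Inv x W → W ≠ ⊥ → W ⊓ fx x ≤ gen x → fx x ≤ gen x := by
    intro W hWn hWi hW hWg y hy
    let π : H →* H ⧸ W := QuotientGroup.mk' W
    let g : H ⧸ W →* H ⧸ W := QuotientGroup.map W W (x : H →* H) fun z hz => hWi z hz
    have hgπ : ∀ z, g (π z) = π (x z) := fun z => rfl
    let xW : MulAut (H ⧸ W) := MulEquiv.ofBijective g (Finite.surjective_iff_bijective.mp fun z => by
      obtain ⟨z, rfl⟩ := QuotientGroup.mk'_surjective W z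
      obtain ⟨z', rfl⟩ := x.surjective z
      exact ⟨π z', rfl⟩)
    have hf : ∀ z, π (x z) = xW (π z) := fun z => rfl
    have hpw : ∀ (i : ℕ) (z : H), π ((x ^ i) z) = (xW ^ i) (π z) := fun i z =>
      map_pow_apply π hf i z
    have hxW : xW ^ p = 1 := by
      ext z
      obtain ⟨z, rfl⟩ := QuotientGroup.mk'_surjective W z
      rw [← hpw, hx]; rfl
    haveI := hsolv
    haveI : Group.IsSolvable (H ⧸ W) := inferInstance
    have hlt : Nat.card (H ⧸ W) < Nat.card H := by
      rw [Subgroup.card_eq_card_quotient_mul_card_subgroup W]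
      refine lt_mul_of_one_lt_right Nat.card_pos ?_
      exact (Subgroup.one_lt_card_iff_ne_bot W).mpr hW
    have hdvd : Nat.card (H ⧸ W) ∣ Nat.card H := Subgroup.card_quotient_dvd_card W
    have key := ih _ hlt (H ⧸ W) rfl inferInstance xW hxW (hcop.coprime_dvd_left hdvd)
    have hmem : π y ∈ comP xW ⊤ := by
      have : (comP x ⊤).map π ≤ comP xW ⊤ := by
        rw [Subgroup.map_le_iff_le_comap, Subgroup.closure_le]
        rintro _ ⟨h, -, i, rfl⟩
        show π (h⁻¹ * (x ^ i) h) ∈ comP xW ⊤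
        rw [map_mul, map_inv, hpw]
        exact c_mem_comP (Subgroup.mem_top _) i
      exact this ⟨y, by rw [hK]; exact Subgroup.mem_top y, rfl⟩
    have hg := key ⟨hmem, show xW (π y) = π y by rw [← hf, mem_fx.mp hy]⟩
    have hle : gen xW ≤ (gen x).map π := by
      refine iSup_le fun z => ?_
      obtain ⟨z, rfl⟩ := QuotientGroup.mk'_surjective W z
      rintro w ⟨hw, hwf⟩
      rw [← map_dd π hf z] at hw
      obtain ⟨d, hd, rfl⟩ := hw
      have hd2 : d⁻¹ * x d ∈ W ⊓ dd x z := by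
        refine Subgroup.mem_inf.mpr ⟨?_, mul_mem (inv_mem hd) (inv_dd x z d hd)⟩
        rw [← QuotientGroup.eq_one_iff]
        show π (d⁻¹ * x d) = 1
        rw [map_mul, map_inv, hf, mem_fx.mp hwf, inv_mul_cancel]
      obtain ⟨u, hu, huf⟩ := exists_fixed_mul hx hcop
        (W := W ⊓ dd x z) (fun v hv => ⟨hWi v hv.1, inv_dd x z v hv.2⟩) hd2
      refine ⟨d * u, le_gen ((dd x z).mul_mem hd hu.2) huf, ?_⟩
      rw [map_mul, (QuotientGroup.eq_one_iff u).mpr hu.1 |> (fun e => show π u = 1 from e), mul_one]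
    obtain ⟨m, hm, hme⟩ := hle hg
    have hmy : m⁻¹ * y ∈ W := QuotientGroup.eq.mp hme
    have := hWg ⟨hmy, (fx x).mul_mem ((fx x).inv_mem (gen_le_fx hm)) hy⟩
    have h2 := mul_mem hm this
    rwa [mul_inv_cancel_left] at h2
  have s : Setup x p := ⟨hx, hp2, hcop, hsolv, hK, hsub, hquot⟩
  rw [hK, top_inf_eq]
  by_contra hbad
  haveI := hsolv
  have hne : (⊤ : Subgroup H) ≠ ⊥ := fun e => hbad fun y _ => by
    have := Subgroup.mem_top y
    rw [e, Subgroup.mem_bot] at this
    rw [this]; exact one_mem _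
  have hZ0 := s.center_fixed hbad
  classical
  -- where to look for an abelian normal subgroup
  obtain ⟨F, hFn, hFi, hFc, hFphi, hFtop⟩ : ∃ F : Subgroup H, F.Normal ∧ Inv x F ∧
      (F ≤ Subgroup.center H → commutator H ≤ Subgroup.center H) ∧
      (∀ q, q.Prime → IsPGroup q H → F ≤ frattini H) ∧
      (F = ⊤ → ∀ q, q.Prime → ¬ IsPGroup q H) := by
    by_cases hpg : ∃ q, q.Prime ∧ IsPGroup q H
    · obtain ⟨q, hq, hqH⟩ := hpg
      haveI : Fact q.Prime := ⟨hq⟩
      haveI : Group.IsNilpotent H := hqH.isNilpotent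
      exact ⟨frattini H, inferInstance, inv_of_char,
        fun hle => le_trans (pGroup_commutator_le_frattini hqH) hle, fun _ _ _ => le_rfl,
        fun e => absurd (frattini_nongenerating (K := (⊥ : Subgroup H))
          (by rw [bot_sup_eq]; exact e)).symm hne⟩
    · push Not at hpg
      exact ⟨⊤, inferInstance, fun y _ => Subgroup.mem_top _,
        fun h => le_trans (fun y _ => h (Subgroup.mem_top y)) le_rfl,
        fun q hq h => absurd h (hpg q hq), fun _ q hq => hpg q hq⟩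
  by_cases hFle : F ≤ Subgroup.center H
  · exact hbad (s.class_two hne (hFc hFle))
  by_cases hab : ∃ Z : Subgroup H, Z ≤ F ∧ Z.Normal ∧ Inv x Z ∧ IsMulCommutative Z ∧ ¬ Z ≤ fx x
  swap
  · push Not at hab
    have hcen : ∀ Z : Subgroup H, Z ≤ F → Z.Normal → Inv x Z → IsMulCommutative Z →
        Z ≤ Subgroup.center H := fun Z h1 h2 h3 h4 => s.central_of_fixed h2 (hab Z h1 h2 h3 h4)
    obtain ⟨V, ⟨hVF, hVn, hVi, hVc⟩, hVmin⟩ := Set.exists_min_image
      {V : Subgroup H | V ≤ F ∧ V.Normal ∧ Inv x V ∧ ¬ V ≤ Subgroup.center H}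
      (fun V => Nat.card V) (Set.toFinite _) ⟨F, le_rfl, hFn, hFi, hFle⟩
    haveI := hVn
    have hVne : V ≠ ⊥ := fun e => hVc (e ▸ bot_le)
    have hlt := commutator_lt_self_of_solvable (N := V) inferInstance hVne
    have hV' : ⁅V, V⁆ ≤ Subgroup.center H := by
      by_contra h
      have hi : Inv x ⁅V, V⁆ := by
        intro y hy
        have : (⁅V, V⁆).map (x : H →* H) ≤ ⁅V, V⁆ := by
          rw [Subgroup.map_commutator]
          exact Subgroup.commutator_mono (fun _ ⟨z, hz, e⟩ => e ▸ hVi z hz)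
            (fun _ ⟨z, hz, e⟩ => e ▸ hVi z hz)
        exact this ⟨y, hy, rfl⟩
      have := hVmin ⁅V, V⁆ ⟨hlt.le.trans hVF, inferInstance, hi, h⟩
      exact hlt.ne (Subgroup.eq_of_le_of_card_ge hlt.le this)
    have hZV : V ⊓ Subgroup.centralizer (V : Set H) ≤ Subgroup.center H := by
      refine hcen _ (inf_le_left.trans hVF) inferInstance
        (inv_inf hVi (inv_centralizer (p := p) hx hVi)) ⟨⟨fun a b => Subtype.ext ?_⟩⟩
      exact (Subgroup.mem_centralizer_iff.mp a.2.2 b b.2.1).symm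
    by_cases hVtop : V = ⊤
    · subst hVtop
      exact hbad (s.class_two hne (by rw [commutator_def]; exact hV'))
    · exact hbad (s.nonabelian_case hVn hVi hVtop hVc hV' hZV)
  obtain ⟨Z, ⟨hZF, hZn, hZi, hZc, hmove⟩, hZmin⟩ := Set.exists_min_image
    {Z : Subgroup H | Z ≤ F ∧ Z.Normal ∧ Inv x Z ∧ IsMulCommutative Z ∧ ¬ Z ≤ fx x}
    (fun Z => Nat.card Z) (Set.toFinite _) hab
  haveI := hZn
  haveI := hZc
  have hmin : ∀ Z' ≤ Z, Z'.Normal → Inv x Z' → Z' ≠ Z → Z' ≤ fx x := by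
    intro Z' hle hn' hi' hne'
    by_contra h
    refine hne' (Subgroup.eq_of_le_of_card_ge hle (hZmin Z' ⟨hle.trans hZF, hn', hi', ?_, h⟩))
    exact ⟨⟨fun a b => Subtype.ext (comm_of_le (hle a.2) (hle b.2))⟩⟩
  have hZtop : Z ≠ ⊤ := fun e => hmove (fun y hy => hZ0 (by
    rw [Subgroup.mem_center_iff]
    exact fun g => comm_of_le (e.symm ▸ Subgroup.mem_top g) hy))
  by_cases hgen : Subgroup.closure {c : H | ∃ S : Subgroup H, Inv x S ∧ Z ≤ S ∧ S ≠ ⊤ ∧
      ∃ h ∈ S, ∃ i : ℕ, c = h⁻¹ * (x ^ i) h} = ⊤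
  · exact hbad (s.of_generated hZn hZi hZtop hmove hgen)
  -- some orbit generates modulo `Z`
  obtain ⟨q, hq, Q, hQi, h, hh, hsup⟩ : ∃ (q : ℕ) (_ : Fact q.Prime) (Q : Sylow q H),
      Inv x (Q : Subgroup H) ∧ ∃ h ∈ (Q : Subgroup H), Z ⊔ orb x h = ⊤ := by
    by_contra hno
    push Not at hno
    refine hgen (top_le_iff.mp (s.sylow_generate.ge.trans ((Subgroup.closure_le _).mpr ?_)))
    rintro _ ⟨q, hq, Q, hQi, h, hh, i, rfl⟩
    exact Subgroup.subset_closure ⟨Z ⊔ orb x h, inv_map x hZi (inv_orb x h), le_sup_left,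
      hno q hq Q hQi h hh, h, Subgroup.mem_sup_right (mem_orb x h), i, rfl⟩
  haveI := hq
  have horb : orb x h ≤ (Q : Subgroup H) := by
    rw [Subgroup.closure_le]
    rintro _ ⟨i, rfl⟩
    exact hQi.pow i h hh
  have hLq : IsPGroup q (orb x h) := Q.isPGroup'.to_le horb
  by_cases hqH : IsPGroup q H
  · -- `h` generates `H`
    have htop : orb x h = ⊤ := frattini_nongenerating (by
      rw [eq_top_iff, ← hsup]
      exact sup_le ((hZF.trans (hFphi q hq.out hqH)).trans le_sup_right) le_sup_left)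
    have hdd := dd_eq_of_orb (hqH.to_subgroup ⊤) (fun y _ => Subgroup.mem_top _) hK htop
    exact hbad fun y hy => le_gen (h := h) (by rw [hdd]; trivial) hy
  -- `q` does not divide the order of `Z`
  have hqZ : ¬ q ∣ Nat.card Z := by
    intro hdvd
    let Zq : Subgroup H :=
      { carrier := {z | z ∈ Z ∧ ∃ k, z ^ q ^ k = 1}
        one_mem' := ⟨Z.one_mem, 0, one_pow _⟩
        mul_mem' := by
          rintro a b ⟨ha, k, hak⟩ ⟨hb, l, hbl⟩
          refine ⟨Z.mul_mem ha hb, k + l, ?_⟩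
          rw [(show Commute a b from comm_of_le ha hb).mul_pow, pow_add, pow_mul, hak, one_pow,
            mul_comm, pow_mul, hbl, one_pow, one_mul]
        inv_mem' := by
          rintro a ⟨ha, k, hak⟩
          exact ⟨Z.inv_mem ha, k, by rw [inv_pow, hak, inv_one]⟩ }
    let Zq' : Subgroup H :=
      { carrier := {z | z ∈ Z ∧ ∃ k, ¬ q ∣ k ∧ z ^ k = 1}
        one_mem' := ⟨Z.one_mem, 1, fun h => hq.out.ne_one (Nat.dvd_one.mp h), one_pow _⟩
        mul_mem' := by
          rintro a b ⟨ha, k, hk, hak⟩ ⟨hb, l, hl, hbl⟩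
          refine ⟨Z.mul_mem ha hb, k * l,
            fun h => (hq.out.dvd_mul.mp h).elim hk hl, ?_⟩
          rw [(show Commute a b from comm_of_le ha hb).mul_pow, pow_mul, hak, one_pow,
            mul_comm, pow_mul, hbl, one_pow, one_mul]
        inv_mem' := by
          rintro a ⟨ha, k, hk, hak⟩
          exact ⟨Z.inv_mem ha, k, hk, by rw [inv_pow, hak, inv_one]⟩ }
    have hn1 : Zq.Normal := ⟨fun z ⟨hz, k, hk⟩ g =>
      ⟨hZn.conj_mem z hz g, k, by rw [conj_pow, hk]; group⟩⟩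
    have hn2 : Zq'.Normal := ⟨fun z ⟨hz, k, hk, hzk⟩ g =>
      ⟨hZn.conj_mem z hz g, k, hk, by rw [conj_pow, hzk]; group⟩⟩
    have hi1 : Inv x Zq := fun z ⟨hz, k, hk⟩ => ⟨hZi z hz, k, by rw [← map_pow, hk, map_one]⟩
    have hi2 : Inv x Zq' := fun z ⟨hz, k, hk, hzk⟩ =>
      ⟨hZi z hz, k, hk, by rw [← map_pow, hzk, map_one]⟩
    have hle1 : Zq ≤ Z := fun z hz => hz.1
    have hle2 : Zq' ≤ Z := fun z hz => hz.1
    have hne1 : Zq ≠ Z := by
      intro e
      refine hqH fun g => ?_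
      have hg : g ∈ ((Z ⊔ orb x h : Subgroup H) : Set H) := by rw [hsup]; trivial
      rw [Subgroup.normal_mul] at hg
      obtain ⟨z, hz, l, hl, rfl⟩ := hg
      have hZp : IsPGroup q Z := fun w => by
        obtain ⟨-, k, hk⟩ := e.ge w.2
        exact ⟨k, Subtype.ext hk⟩
      have hsupp : IsPGroup q ↥(Z ⊔ orb x h) := hZp.to_sup_of_normal_left hLq
      obtain ⟨k, hk⟩ := hsupp ⟨z * l, mul_mem (Subgroup.mem_sup_left hz) (Subgroup.mem_sup_right hl)⟩
      exact ⟨k, congrArg Subtype.val hk⟩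
    have hne2 : Zq' ≠ Z := by
      intro e
      obtain ⟨w, hw⟩ := exists_prime_orderOf_dvd_card' q hdvd
      obtain ⟨-, k, hk, hwk⟩ := e.ge w.2
      refine hk ?_
      rw [← hw, ← Subgroup.orderOf_coe]
      exact orderOf_dvd_of_pow_eq_one hwk
    refine hmove fun z hz => ?_
    obtain ⟨k, m, hm, hom⟩ := Nat.exists_eq_pow_mul_and_not_dvd (orderOf_pos z).ne' q hq.out.ne_one
    have hc : (q ^ k).Coprime m := Nat.Coprime.pow_left k (hq.out.coprime_iff_not_dvd.mpr hm)
    have h1 : z ^ q ^ k ∈ fx x := hmin Zq' hle2 hn2 hi2 hne2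
      ⟨Z.pow_mem hz _, m, hm, by rw [← pow_mul, ← hom, pow_orderOf_eq_one]⟩
    have h2 : z ^ m ∈ fx x := hmin Zq hle1 hn1 hi1 hne1
      ⟨Z.pow_mem hz _, k, by rw [← pow_mul, mul_comm, ← hom, pow_orderOf_eq_one]⟩
    have e : z = (z ^ q ^ k) ^ (Nat.gcdA (q ^ k) m) * (z ^ m) ^ (Nat.gcdB (q ^ k) m) := by
      rw [← zpow_natCast, ← zpow_natCast z m, ← zpow_mul, ← zpow_mul, ← zpow_add,
        ← Nat.gcd_eq_gcd_ab, hc.gcd_eq_one]
      simp
    rw [e]
    exact (fx x).mul_mem ((fx x).zpow_mem h1 _) ((fx x).zpow_mem h2 _)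
  exact hbad (s.complement_case hZn hZi hZtop hLq (inv_orb x h) hsup hqZ hmove hmin rfl)

end Cfsg.Agent.Grp.OddFix
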