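import Mathlib

/-!
An automorphism of prime order acting coprimely: commutator subgroups and fixed elements.
-/

set_option linter.unusedSectionVars false
set_option maxHeartbeats 400000

namespace Cfsg.Agent.Grp.OddFix

variable {H : Type*} [Group H]

/-- fixed elements -/
abbrev fx (x : MulAut H) : Subgroup H := (x : H →* H).eqLocus (MonoidHom.id H)

/-- `[h, P]` -/
abbrev dd (x : MulAut H) (h : H) : Subgroup H :=
  Subgroup.closure {c : H | ∃ i : ℕ, c = h⁻¹ * (x ^ i) h}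

/-- `[S, P]` -/
abbrev comP (x : MulAut H) (S : Subgroup H) : Subgroup H :=
  Subgroup.closure {c : H | ∃ h ∈ S, ∃ i : ℕ, c = h⁻¹ * (x ^ i) h}

/-- the generated subgroup of fixed elements -/
abbrev gen (x : MulAut H) : Subgroup H := ⨆ h : H, dd x h ⊓ fx x

def Inv (x : MulAut H) (S : Subgroup H) : Prop := ∀ y ∈ S, x y ∈ S

variable {x : MulAut H}

theorem mem_fx {y : H} : y ∈ fx x ↔ x y = y := Iff.rfl

theorem pow_apply_fixed {y : H} (hy : x y = y) (i : ℕ) : (x ^ i) y = y := by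
  induction i with
  | zero => rfl
  | succ i ih => rw [pow_succ, MulAut.mul_apply, hy, ih]

theorem c_mem_dd (x : MulAut H) (h : H) (i : ℕ) : h⁻¹ * (x ^ i) h ∈ dd x h :=
  Subgroup.subset_closure ⟨i, rfl⟩

theorem c_mem_comP {S : Subgroup H} {h : H} (hh : h ∈ S) (i : ℕ) :
    h⁻¹ * (x ^ i) h ∈ comP x S := Subgroup.subset_closure ⟨h, hh, i, rfl⟩

theorem dd_le_comP {S : Subgroup H} {h : H} (hh : h ∈ S) : dd x h ≤ comP x S := by
  rw [Subgroup.closure_le]
  rintro _ ⟨i, rfl⟩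
  exact c_mem_comP hh i

theorem comP_mono {S T : Subgroup H} (h : S ≤ T) : comP x S ≤ comP x T := by
  rw [Subgroup.closure_le]
  rintro _ ⟨g, hg, i, rfl⟩
  exact c_mem_comP (h hg) i

theorem Inv.pow {S : Subgroup H} (hS : Inv x S) (i : ℕ) : ∀ y ∈ S, (x ^ i) y ∈ S := by
  induction i with
  | zero => exact fun y hy => hy
  | succ i ih => exact fun y hy => by rw [pow_succ, MulAut.mul_apply]; exact ih _ (hS y hy)

theorem comP_le {S : Subgroup H} (hS : Inv x S) : comP x S ≤ S := by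
  rw [Subgroup.closure_le]
  rintro _ ⟨g, hg, i, rfl⟩
  exact S.mul_mem (S.inv_mem hg) (hS.pow i g hg)

theorem inv_closure {s : Set H} (h : ∀ y ∈ s, x y ∈ Subgroup.closure s) :
    Inv x (Subgroup.closure s) := by
  intro y hy
  induction hy using Subgroup.closure_induction with
  | mem y hy => exact h y hy
  | one => rw [map_one]; exact one_mem _
  | mul a b _ _ ha hb => rw [map_mul]; exact mul_mem ha hb
  | inv a _ ha => rw [map_inv]; exact inv_mem ha

theorem apply_c (h : H) (i : ℕ) :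
    x (h⁻¹ * (x ^ i) h) = (h⁻¹ * (x ^ 1) h)⁻¹ * (h⁻¹ * (x ^ (i + 1)) h) := by
  rw [map_mul, map_inv, pow_one, pow_succ', MulAut.mul_apply]
  group

theorem inv_dd (x : MulAut H) (h : H) : Inv x (dd x h) :=
  inv_closure fun y ⟨i, e⟩ => by
    rw [e, apply_c]; exact mul_mem (inv_mem (c_mem_dd x h 1)) (c_mem_dd x h (i + 1))

theorem inv_comP (x : MulAut H) (S : Subgroup H) : Inv x (comP x S) :=
  inv_closure fun y ⟨g, hg, i, e⟩ => by
    rw [e, apply_c]; exact mul_mem (inv_mem (c_mem_comP hg 1)) (c_mem_comP hg (i + 1))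

theorem comP_conj {S : Subgroup H} {g y : H} (hg : g ∈ S) (hy : y ∈ comP x S) :
    g * y * g⁻¹ ∈ comP x S := by
  induction hy using Subgroup.closure_induction with
  | mem y hy =>
    obtain ⟨k, hk, i, rfl⟩ := hy
    have h1 := c_mem_comP (x := x) (S.mul_mem hk (S.inv_mem hg)) i
    have h2 := c_mem_comP (x := x) (S.inv_mem hg) i
    have e : g * (k⁻¹ * (x ^ i) k) * g⁻¹ =
        ((k * g⁻¹)⁻¹ * (x ^ i) (k * g⁻¹)) * ((g⁻¹)⁻¹ * (x ^ i) g⁻¹)⁻¹ := by
      rw [map_mul]; group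
    rw [e]
    exact mul_mem h1 (inv_mem h2)
  | one => simp
  | mul a b _ _ ha hb =>
    have e : g * (a * b) * g⁻¹ = g * a * g⁻¹ * (g * b * g⁻¹) := by group
    rw [e]; exact mul_mem ha hb
  | inv a _ ha =>
    have e : g * a⁻¹ * g⁻¹ = (g * a * g⁻¹)⁻¹ := by group
    rw [e]; exact inv_mem ha

theorem comP_top_normal (x : MulAut H) : (comP x (⊤ : Subgroup H)).Normal :=
  ⟨fun _ hy g => comP_conj (Subgroup.mem_top g) hy⟩

theorem fx_conj_dd {f : H} (hf : f ∈ fx x) {h y : H} (hy : y ∈ dd x h) :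
    f * y * f⁻¹ ∈ dd x (f * h * f⁻¹) := by
  induction hy using Subgroup.closure_induction with
  | mem y hy =>
    obtain ⟨i, rfl⟩ := hy
    have hfi : (x ^ i) f = f := pow_apply_fixed hf i
    refine Subgroup.subset_closure ⟨i, ?_⟩
    rw [map_mul, map_mul, map_inv, hfi]
    group
  | one => simp
  | mul a b _ _ ha hb =>
    have e : f * (a * b) * f⁻¹ = f * a * f⁻¹ * (f * b * f⁻¹) := by group
    rw [e]; exact mul_mem ha hb
  | inv a _ ha =>
    have e : f * a⁻¹ * f⁻¹ = (f * a * f⁻¹)⁻¹ := by group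
    rw [e]; exact inv_mem ha

theorem gen_conj {f : H} (hf : f ∈ fx x) {y : H} (hy : y ∈ gen x) : f * y * f⁻¹ ∈ gen x := by
  refine Subgroup.iSup_induction (fun h => dd x h ⊓ fx x) (C := fun y => f * y * f⁻¹ ∈ gen x)
    hy ?_ ?_ ?_
  · intro h z hz
    exact Subgroup.mem_iSup_of_mem (f * h * f⁻¹)
      ⟨fx_conj_dd hf hz.1, (fx x).mul_mem ((fx x).mul_mem hf hz.2) ((fx x).inv_mem hf)⟩
  · simp
  · intro a b ha hb
    have e : f * (a * b) * f⁻¹ = f * a * f⁻¹ * (f * b * f⁻¹) := by group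
    rw [e]; exact mul_mem ha hb

theorem le_gen {h y : H} (hy : y ∈ dd x h) (hf : y ∈ fx x) : y ∈ gen x :=
  Subgroup.mem_iSup_of_mem h ⟨hy, hf⟩

theorem gen_le_fx : gen x ≤ fx x := iSup_le fun _ => inf_le_right

variable {p : ℕ} [hp : Fact p.Prime]

theorem exists_fixed_mul [Finite H] (hx : x ^ p = 1) (hcop : (Nat.card H).Coprime p)
    {W : Subgroup H} (hW : Inv x W) {y : H} (hy : y⁻¹ * x y ∈ W) :
    ∃ w ∈ W, x (y * w) = y * w := by
  classical
  have : Fintype W := Fintype.ofFinite W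
  let f : W → W := fun w => ⟨y⁻¹ * x (y * w), by
    rw [map_mul, ← mul_assoc]; exact W.mul_mem hy (hW _ w.2)⟩
  have hbij : Function.Bijective f := Finite.injective_iff_bijective.mp fun a b hab => by
    have := congrArg Subtype.val hab
    simp only [f, mul_right_inj, EmbeddingLike.apply_eq_iff_eq] at this
    exact Subtype.ext this
  let σ : Equiv.Perm W := Equiv.ofBijective f hbij
  have hit : ∀ (i : ℕ) (w : W), ((σ ^ i) w : H) = y⁻¹ * (x ^ i) (y * w) := by
    intro i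
    induction i with
    | zero => intro w; simp
    | succ i ih =>
      intro w
      rw [pow_succ', Equiv.Perm.mul_apply]
      show y⁻¹ * x (y * ((σ ^ i) w : H)) = _
      rw [ih, mul_inv_cancel_left, pow_succ', MulAut.mul_apply]
  have hσ : σ ^ p ^ 1 = 1 := by
    rw [pow_one]
    ext w
    rw [hit, hx]
    simp
  have hcard : ¬ p ∣ Fintype.card W := by
    rw [← Nat.card_eq_fintype_card]
    intro hd
    exact (hp.out.coprime_iff_not_dvd.mp hcop.symm) (hd.trans (Subgroup.card_subgroup_dvd_card W))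
  obtain ⟨w, hw⟩ := Equiv.Perm.exists_fixed_point_of_prime hcard hσ
  refine ⟨w, w.2, ?_⟩
  have h := congrArg Subtype.val hw
  simp only [σ, Equiv.ofBijective_apply, f] at h
  conv_rhs => rw [← h]
  rw [mul_inv_cancel_left]

theorem exists_fix_comP [Finite H] (hx : x ^ p = 1) (hcop : (Nat.card H).Coprime p)
    {S : Subgroup H} (hS : Inv x S) {y : H} (hy : y ∈ S) :
    ∃ k ∈ comP x S, y * k ∈ S ∧ y * k ∈ fx x := by
  obtain ⟨w, hw, e⟩ := exists_fixed_mul hx hcop (inv_comP x S) (y := y) (by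
    simpa using c_mem_comP (x := x) hy 1)
  exact ⟨w, hw, S.mul_mem hy (comP_le hS hw), e⟩

theorem comP_comP [Finite H] (hx : x ^ p = 1) (hcop : (Nat.card H).Coprime p)
    {S : Subgroup H} (hS : Inv x S) : comP x (comP x S) = comP x S := by
  refine le_antisymm (comP_le (inv_comP x S)) ((Subgroup.closure_le _).mpr ?_)
  rintro _ ⟨h, hh, i, rfl⟩
  obtain ⟨k, hk, -, hf⟩ := exists_fix_comP hx hcop hS hh
  have e := c_mem_comP (x := x) (S := comP x S) (inv_mem hk) i
  have hf' : (x ^ i) (h * k) = h * k := pow_apply_fixed hf i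
  rw [map_mul] at hf'
  have e' : h⁻¹ * (x ^ i) h = (k⁻¹)⁻¹ * (x ^ i) k⁻¹ := by
    rw [inv_inv, map_inv, eq_mul_inv_iff_mul_eq, mul_assoc, hf']
    group
  rw [SetLike.mem_coe, e']
  exact e

theorem exists_inv_sylow [Finite H] (hx : x ^ p = 1) (hcop : (Nat.card H).Coprime p)
    (q : ℕ) [Fact q.Prime] : ∃ Q : Sylow q H, Inv x (Q : Subgroup H) := by
  classical
  have : Fintype (Sylow q H) := Fintype.ofFinite _
  have hcard : ¬ p ∣ Fintype.card (Sylow q H) := by
    rw [← Nat.card_eq_fintype_card]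
    intro hd
    have h2 : Nat.card (Sylow q H) ∣ Nat.card H :=
      ((default : Sylow q H).card_dvd_index).trans (Subgroup.index_dvd_card _)
    exact (hp.out.coprime_iff_not_dvd.mp hcop.symm) (hd.trans h2)
  let σ : Equiv.Perm (Sylow q H) := MulAction.toPerm x
  have hσ : σ ^ p ^ 1 = 1 := by
    rw [pow_one]
    have : σ ^ p = MulAction.toPermHom (MulAut H) (Sylow q H) (x ^ p) := by
      rw [map_pow]; rfl
    rw [this, hx, map_one]
  obtain ⟨Q, hQ⟩ := Equiv.Perm.exists_fixed_point_of_prime hcard hσ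
  refine ⟨Q, fun y hy => ?_⟩
  have h : x y ∈ ((x • Q : Sylow q H) : Subgroup H) :=
    Subgroup.mem_map.mpr ⟨y, hy, rfl⟩
  rwa [show x • Q = Q from hQ] at h

end Cfsg.Agent.Grp.OddFix
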