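import Cfsg.Agent.Lib.Grp.OddFix.Main
import Cfsg.Agent.Lib.Grp.Solvable

/-!
The case analysis for the generation of fixed points.
-/

set_option linter.unusedSectionVars false
set_option linter.style.haveILetI false
set_option maxHeartbeats 800000

open scoped commutatorElement

namespace Cfsg.Agent.Grp.OddFix

universe u

variable {H : Type u} [Group H] [Finite H] {x : MulAut H} {p : ℕ} [hp : Fact p.Prime]

theorem inv_center (x : MulAut H) : Inv x (Subgroup.center H) := fun y hy => by
  rw [Subgroup.mem_center_iff] at hy ⊢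
  intro g
  obtain ⟨g', rfl⟩ := x.surjective g
  rw [← map_mul, hy, map_mul]

theorem inv_of_char {S : Subgroup H} [hS : S.Characteristic] : Inv x S := fun y hy => by
  have := hS.fixed x
  rw [← this] at hy
  exact hy

theorem inv_inf {S T : Subgroup H} (hS : Inv x S) (hT : Inv x T) : Inv x (S ⊓ T) :=
  fun y hy => ⟨hS y hy.1, hT y hy.2⟩

theorem inv_centralizer (hx : x ^ p = 1) {S : Subgroup H} (hS : Inv x S) :
    Inv x (Subgroup.centralizer (S : Set H)) := by
  intro y hy
  rw [Subgroup.mem_centralizer_iff] at hy ⊢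
  intro u hu
  obtain ⟨u', rfl⟩ := x.surjective u
  have hu' : u' ∈ S := by
    have h := hS.pow (p - 1) _ hu
    rwa [← MulAut.mul_apply, ← pow_succ, Nat.sub_add_cancel hp.out.one_le, hx] at h
  rw [← map_mul, hy u' hu', map_mul]

theorem inv_map (x : MulAut H) {S T : Subgroup H} (hS : Inv x S) (hT : Inv x T) : Inv x (S ⊔ T) := by
  intro y hy
  have : S ⊔ T ≤ (S ⊔ T).comap (x : H →* H) :=
    sup_le (fun z hz => Subgroup.mem_sup_left (hS z hz)) fun z hz => Subgroup.mem_sup_right (hT z hz)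
  exact this hy

namespace Setup

variable (s : Setup x p)
include s

/-- Class two: the fixed points of `Z(H)` lie in the generated subgroup. -/
theorem class_two (hne : (⊤ : Subgroup H) ≠ ⊥) (hcl : commutator H ≤ Subgroup.center H) :
    fx x ≤ gen x := by
  classical
  by_contra hbad
  have hZ0 := s.center_fixed hbad
  have hcen : ∀ a b : H, ⁅a, b⁆ ∈ Subgroup.center H := fun a b =>
    hcl (Subgroup.commutator_mem_commutator (Subgroup.mem_top a) (Subgroup.mem_top b))
  have hfc : fx x ≤ Subgroup.center H := by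
    refine s.central_of_fixed ⟨fun f hf g => ?_⟩ le_rfl
    have e : g * f * g⁻¹ = ⁅g, f⁆ * f := by rw [commutatorElement_def]; group
    rw [e]
    exact (fx x).mul_mem (hZ0 (hcen g f)) hf
  -- some `[h, x]` is not abelian
  have hex : ∃ h a b : H, a ∈ dd x h ∧ b ∈ dd x h ∧ a * b ≠ b * a := by
    by_contra hno
    push Not at hno
    -- every `h` commutes with `x h`
    have hh : ∀ h, h * x h = x h * h := by
      intro h
      let π : H →* H ⧸ Subgroup.center H := QuotientGroup.mk' _
      letI : CommGroup (H ⧸ Subgroup.center H) :=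
        { (inferInstance : Group (H ⧸ Subgroup.center H)) with
          mul_comm := fun a b => by
            obtain ⟨a, rfl⟩ := QuotientGroup.mk'_surjective _ a
            obtain ⟨b, rfl⟩ := QuotientGroup.mk'_surjective _ b
            rw [← map_mul, ← map_mul, QuotientGroup.mk'_eq_mk']
            exact ⟨⁅b⁻¹, a⁻¹⁆, hcen _ _, by rw [commutatorElement_def]; group⟩ }
      set P := ((List.range p).map fun i => (x ^ i) h).prod with hP
      have hπP : π P = ∏ i ∈ Finset.range p, π ((x ^ i) h) := by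
        rw [hP, map_list_prod, List.map_map]; rfl
      have hPc : P ∈ Subgroup.center H := by
        have hd : P⁻¹ * x P ∈ Subgroup.center H := by
          rw [← QuotientGroup.eq_one_iff]
          show π (P⁻¹ * x P) = 1
          rw [map_mul, map_inv, inv_mul_eq_one, hπP]
          have : π (x P) = ∏ i ∈ Finset.range p, π ((x ^ (i + 1)) h) := by
            rw [hP, map_list_prod, List.map_map, map_list_prod, List.map_map]
            refine congrArg List.prod (List.map_congr_left fun i _ => ?_)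
            show π (x ((x ^ i) h)) = π ((x ^ (i + 1)) h)
            rw [pow_succ', MulAut.mul_apply]
          rw [this]
          have h1 := Finset.prod_range_succ (fun i => π ((x ^ i) h)) p
          have h2 := Finset.prod_range_succ' (fun i => π ((x ^ i) h)) p
          rw [h1, s.hx, pow_zero] at h2
          exact mul_right_cancel h2
        obtain ⟨w, hw, hwf⟩ := exists_fixed_mul s.hx s.cop (inv_center x) hd
        have := (Subgroup.center H).mul_mem (hfc hwf) ((Subgroup.center H).inv_mem hw)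
        rwa [mul_inv_cancel_right] at this
      have hc : h ∈ dd x h ⊔ Subgroup.center H := by
        refine s.coprime_mem_of_pow ?_
        have hmem : π (h ^ p) ∈ (dd x h ⊔ Subgroup.center H).map π := by
          have e : ∏ i ∈ Finset.range p, π ((x ^ i) h) =
              π h ^ p * ∏ i ∈ Finset.range p, π (h⁻¹ * (x ^ i) h) := by
            have e2 : π h ^ p = ∏ i ∈ Finset.range p, π h := by
              rw [Finset.prod_const, Finset.card_range]
            rw [e2, ← Finset.prod_mul_distrib]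
            exact Finset.prod_congr rfl fun i _ => by rw [← map_mul, mul_inv_cancel_left]
          have h1 : π P = 1 := (QuotientGroup.eq_one_iff P).mpr hPc
          rw [hπP, e, mul_eq_one_iff_eq_inv] at h1
          rw [map_pow, h1]
          refine inv_mem (Subgroup.prod_mem _ fun i _ => ?_)
          exact Subgroup.mem_map_of_mem _ (Subgroup.mem_sup_left (c_mem_dd x h i))
        obtain ⟨y, hy, e⟩ := hmem
        obtain ⟨c, hc, e'⟩ := (QuotientGroup.mk'_eq_mk' _).mp e
        rw [← e']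
        exact mul_mem hy (Subgroup.mem_sup_right hc)
      obtain ⟨d, hd, c, hcc, hdc⟩ := Subgroup.mem_sup_of_normal_right.mp hc
      set c₁ := h⁻¹ * (x ^ 1) h with hc1
      have e1 : x h = h * c₁ := by rw [hc1, mul_inv_cancel_left, pow_one]
      have e3 : d * c₁ = c₁ * d := hno h d c₁ hd (c_mem_dd x h 1)
      have e4 : h * c₁ = c₁ * h := by
        rw [← hdc, mul_assoc, ← Subgroup.mem_center_iff.mp hcc c₁, ← mul_assoc, e3, mul_assoc]
      rw [e1]
      calc h * (h * c₁) = h * (c₁ * h) := by rw [e4]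
        _ = _ := by group
    -- polarise
    have hbil : ∀ a b c : H, ⁅a * b, c⁆ = ⁅a, c⁆ * ⁅b, c⁆ := fun a b c => by
      calc ⁅a * b, c⁆ = a * ⁅b, c⁆ * a⁻¹ * ⁅a, c⁆ := by simp only [commutatorElement_def]; group
        _ = ⁅b, c⁆ * ⁅a, c⁆ := by
            rw [Subgroup.mem_center_iff.mp (hcen b c) a, mul_inv_cancel_right]
        _ = _ := (Subgroup.mem_center_iff.mp (hcen a c) ⁅b, c⁆)
    have hbil' : ∀ a b c : H, ⁅a, b * c⁆ = ⁅a, b⁆ * ⁅a, c⁆ := fun a b c => by
      calc ⁅a, b * c⁆ = ⁅a, b⁆ * (b * ⁅a, c⁆ * b⁻¹) := by simp only [commutatorElement_def]; group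
        _ = _ := by rw [Subgroup.mem_center_iff.mp (hcen a c) b, mul_inv_cancel_right]
    have hz : ∀ a, ⁅a, x a⁆ = 1 := fun a => commutatorElement_eq_one_iff_mul_comm.mpr (hh a)
    have hxc : ∀ a b : H, ⁅x a, x b⁆ = ⁅a, b⁆ := fun a b => by
      rw [← map_commutatorElement]
      exact hZ0 (hcen a b)
    have hskew : ∀ a b : H, ⁅a, x b⁆ = ⁅x a, b⁆ := by
      intro a b
      have h := hz (a * b)
      rw [map_mul, hbil, hbil', hbil', hz, hz, one_mul, mul_one] at h
      rw [mul_eq_one_iff_eq_inv, commutatorElement_inv] at h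
      exact h
    -- `a` and `x (x a)` differ by a central element
    have hsq : ∀ a, a⁻¹ * x (x a) ∈ Subgroup.center H := by
      intro a
      rw [Subgroup.mem_center_iff]
      intro g
      obtain ⟨b, rfl⟩ := x.surjective g
      have h1 : ⁅a, x b⁆ = ⁅x (x a), x b⁆ := by rw [hskew, hxc]
      have h2 : ⁅a⁻¹ * x (x a), x b⁆ = 1 := by
        rw [hbil, ← h1, ← hbil, inv_mul_cancel, commutatorElement_one_left]
      exact (commutatorElement_eq_one_iff_mul_comm.mp h2).symm
    have hone : ∀ a, a⁻¹ * x a ∈ Subgroup.center H := by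
      intro a
      let π : H →* H ⧸ Subgroup.center H := QuotientGroup.mk' _
      let x' : H ⧸ Subgroup.center H → H ⧸ Subgroup.center H := QuotientGroup.map (Subgroup.center H)
        (Subgroup.center H)
        (x : H →* H) (fun z hz => inv_center x z hz)
      have hit : ∀ i, x'^[i] (π a) = π ((x ^ i) a) := by
        intro i
        induction i with
        | zero => rfl
        | succ i ih => rw [Function.iterate_succ_apply', ih, pow_succ', MulAut.mul_apply]; rfl
      have h := orbit_three (p := p) x' (π a) s.hp2 (by rw [hit, s.hx]; rfl)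
        (by
          show π (x (x a)) = π a
          exact ((QuotientGroup.eq).mpr (hsq a)).symm)
      exact QuotientGroup.eq.mp (h.symm : π a = π (x a))
    have hallfix : ∀ a, a ∈ fx x := by
      intro a
      obtain ⟨w, hw, hwf⟩ := exists_fixed_mul s.hx s.cop (inv_center x) (hone a)
      have := (fx x).mul_mem hwf ((fx x).inv_mem (hZ0 hw))
      rwa [mul_inv_cancel_right] at this
    refine hne (le_bot_iff.mp (s.top.ge.trans ((Subgroup.closure_le _).mpr ?_)))
    rintro _ ⟨g, -, i, rfl⟩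
    rw [SetLike.mem_coe, Subgroup.mem_bot, pow_apply_fixed (hallfix g) i, inv_mul_cancel]
  obtain ⟨h, a, b, ha, hb, hab⟩ := hex
  set W := Subgroup.zpowers ⁅a, b⁆
  have hmem : ⁅a, b⁆ ∈ dd x h := by
    rw [commutatorElement_def]
    exact mul_mem (mul_mem (mul_mem ha hb) (inv_mem ha)) (inv_mem hb)
  have hWc : W ≤ Subgroup.center H := Subgroup.zpowers_le.mpr (hcen a b)
  refine hbad (s.quot W ⟨fun w hw g => ?_⟩ (fun w hw => ?_) ?_ ?_)
  · rw [Subgroup.mem_center_iff.mp (hWc hw) g, mul_inv_cancel_right]; exact hw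
  · rwa [mem_fx.mp (hZ0 (hWc hw))]
  · rw [Ne, Subgroup.zpowers_eq_bot, commutatorElement_eq_one_iff_mul_comm]; exact hab
  · exact inf_le_left.trans (Subgroup.zpowers_le.mpr (le_gen hmem (hZ0 (hcen a b))))

/-- A minimal non-central invariant normal subgroup. -/
theorem nonabelian_case {V : Subgroup H} (hn : V.Normal) (hi : Inv x V) (hV : V ≠ ⊤)
    (hnc : ¬ V ≤ Subgroup.center H) (hV' : ⁅V, V⁆ ≤ Subgroup.center H)
    (hZV : V ⊓ Subgroup.centralizer (V : Set H) ≤ Subgroup.center H) : fx x ≤ gen x := by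
  by_contra hbad
  have hZ0 := s.center_fixed hbad
  set Y := comP x V with hY
  have hYV : Y ≤ V := comP_le hi
  have hcomm : ∀ u ∈ V, u ∈ fx x → ∀ y ∈ Y, u * y = y * u := by
    intro u hu huf y hy
    have : Y ≤ Subgroup.centralizer ({u} : Set H) := by
      rw [hY, Subgroup.closure_le]
      rintro _ ⟨g, hg, i, rfl⟩
      rw [SetLike.mem_coe, Subgroup.mem_centralizer_singleton_iff]
      have hc : u * g * u⁻¹ * g⁻¹ ∈ fx x := hZ0 (hV' (by
        simpa [commutatorElement_def] using Subgroup.commutator_mem_commutator hu hg))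
      have hcc : u * g * u⁻¹ * g⁻¹ ∈ Subgroup.center H := hV' (by
        simpa [commutatorElement_def] using Subgroup.commutator_mem_commutator hu hg)
      set c := u * g * u⁻¹ * g⁻¹ with hcdef
      have e1 : u * g * u⁻¹ = c * g := by rw [hcdef]; group
      have e2 : u * (x ^ i) g * u⁻¹ = c * (x ^ i) g := by
        have := congrArg (x ^ i) e1
        rwa [map_mul, map_mul, map_mul, map_inv, pow_apply_fixed huf, pow_apply_fixed hc] at this
      have e3 : u * (g⁻¹ * (x ^ i) g) * u⁻¹ = g⁻¹ * (x ^ i) g := by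
        calc u * (g⁻¹ * (x ^ i) g) * u⁻¹ = (u * g * u⁻¹)⁻¹ * (u * (x ^ i) g * u⁻¹) := by group
          _ = (c * g)⁻¹ * (c * (x ^ i) g) := by rw [e1, e2]
          _ = g⁻¹ * (x ^ i) g := by group
      exact (mul_inv_eq_iff_eq_mul.mp e3).symm
    exact (Subgroup.mem_centralizer_singleton_iff.mp (this hy)).symm
  have hdec : ∀ v ∈ V, ∃ k ∈ Y, v * k ∈ V ∧ v * k ∈ fx x := fun v hv =>
    exists_fix_comP s.hx s.cop hi hv
  -- `[V, x]` is not abelian
  have hnab : ∃ a ∈ Y, ∃ b ∈ Y, a * b ≠ b * a := by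
    by_contra hno
    push Not at hno
    have hYc : Y ≤ Subgroup.center H := by
      refine le_trans (le_inf hYV fun y hy => Subgroup.mem_centralizer_iff.mpr fun v hv => ?_) hZV
      obtain ⟨k, hk, hkV, hkf⟩ := hdec v hv
      have h1 := hcomm _ hkV hkf y hy
      have h2 := hno k hk y hy
      calc v * y = v * (y * k) * k⁻¹ := by group
        _ = v * (k * y) * k⁻¹ := by rw [h2]
        _ = (v * k * y) * k⁻¹ := by group
        _ = (y * (v * k)) * k⁻¹ := by rw [h1]
        _ = y * v := by group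
    refine hnc (s.central_of_fixed hn fun v hv => ?_)
    obtain ⟨k, hk, -, hkf⟩ := hdec v hv
    have := (fx x).mul_mem hkf ((fx x).inv_mem (hZ0 (hYc hk)))
    rwa [mul_inv_cancel_right] at this
  obtain ⟨a, ha, b, hb, hab⟩ := hnab
  set W := Subgroup.zpowers ⁅a, b⁆
  have hc : ⁅a, b⁆ ∈ Subgroup.center H :=
    hV' (Subgroup.commutator_mem_commutator (hYV ha) (hYV hb))
  have hWc : W ≤ Subgroup.center H := Subgroup.zpowers_le.mpr hc
  refine hbad (s.quot W ⟨fun w hw g => ?_⟩ (fun w hw => ?_) ?_ ?_)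
  · rw [Subgroup.mem_center_iff.mp (hWc hw) g, mul_inv_cancel_right]; exact hw
  · rwa [mem_fx.mp (hZ0 (hWc hw))]
  · rw [Ne, Subgroup.zpowers_eq_bot, commutatorElement_eq_one_iff_mul_comm]; exact hab
  · refine inf_le_left.trans (Subgroup.zpowers_le.mpr (s.sub V hi hV ⟨?_, hZ0 hc⟩))
    rw [commutatorElement_def]
    exact (comP x V).mul_mem ((comP x V).mul_mem ((comP x V).mul_mem ha hb) ((comP x V).inv_mem ha))
      ((comP x V).inv_mem hb)

/-- The complemented case. -/
theorem complement_case {Z L : Subgroup H} [IsMulCommutative Z] (hn : Z.Normal) (hi : Inv x Z)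
    (hZtop : Z ≠ ⊤) {q : ℕ} [Fact q.Prime] (hL : IsPGroup q L) (hLi : Inv x L) (hsup : Z ⊔ L = ⊤)
    (hq : ¬ q ∣ Nat.card Z) (hmove : ¬ Z ≤ fx x)
    (hmin : ∀ Z' ≤ Z, Z'.Normal → Inv x Z' → Z' ≠ Z → Z' ≤ fx x)
    {h : H} (ho : orb x h = L) : fx x ≤ gen x := by
  classical
  by_contra hbad
  have hZ0 := s.center_fixed hbad
  obtain ⟨k, hk⟩ := IsPGroup.iff_card.mp hL
  have hcop : (Nat.card Z).Coprime (Nat.card L) := by
    rw [hk]
    exact Nat.Coprime.pow_right k (Nat.coprime_comm.mp
      ((Fact.out : q.Prime).coprime_iff_not_dvd.mpr hq))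
  have hZL : Z ⊓ L = ⊥ := (Subgroup.disjoint_of_coprime_natCard hcop).eq_bot
  have hh : h ∈ L := ho ▸ mem_orb x h
  have hdec : ∀ g, ∃ z ∈ Z, ∃ l ∈ L, g = z * l := by
    intro g
    have hg : g ∈ ((Z ⊔ L : Subgroup H) : Set H) := by rw [hsup]; trivial
    rw [Subgroup.normal_mul] at hg
    obtain ⟨z, hz, l, hl, rfl⟩ := hg
    exact ⟨z, hz, l, hl, rfl⟩
  have huniq : ∀ a ∈ L, ∀ b ∈ L, a⁻¹ * b ∈ Z → a = b := by
    intro a ha b hb hab
    have : a⁻¹ * b ∈ Z ⊓ L := ⟨hab, L.mul_mem (L.inv_mem ha) hb⟩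
    rw [hZL, Subgroup.mem_bot, inv_mul_eq_one] at this
    exact this
  -- `L = [L, x]`
  have hLc : comP x L = L := by
    refine le_antisymm (comP_le hLi) fun l hl => ?_
    have hle : comP x (⊤ : Subgroup H) ≤ Z ⊔ comP x L := by
      rw [Subgroup.closure_le]
      rintro _ ⟨g, -, i, rfl⟩
      obtain ⟨z, hz, l, hl, rfl⟩ := hdec g
      have e : (z * l)⁻¹ * (x ^ i) (z * l) =
          l⁻¹ * (z⁻¹ * (x ^ i) z) * l⁻¹⁻¹ * (l⁻¹ * (x ^ i) l) := by rw [map_mul]; group
      rw [e]
      exact mul_mem (Subgroup.mem_sup_left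
        (hn.conj_mem _ (Z.mul_mem (Z.inv_mem hz) (hi.pow i z hz)) _))
        (Subgroup.mem_sup_right (c_mem_comP hl i))
    have hl' : l ∈ ((Z ⊔ comP x L : Subgroup H) : Set H) :=
      hle (by rw [s.top]; exact Subgroup.mem_top l)
    rw [Subgroup.normal_mul] at hl'
    obtain ⟨z, hz, m, hm, hzm⟩ := hl'
    have : m = l := huniq m (comP_le hLi hm) l hl (by
      have h1 := hn.conj_mem z hz m⁻¹
      have e : m⁻¹ * l = m⁻¹ * z * m⁻¹⁻¹ := by rw [← hzm]; group
      rwa [e])
    exact this ▸ hm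
  have hdd : dd x h = L := dd_eq_of_orb hL hLi hLc ho
  have hL1 : L ≠ ⊥ := fun e => hZtop (by rw [← hsup, e, sup_bot_eq])
  have hLtop : L ≠ ⊤ := by
    intro e
    rw [e, inf_top_eq] at hZL
    exact hmove (hZL ▸ bot_le)
  -- no central part in `Z`
  have hC1 : Z ⊓ Subgroup.center H = ⊥ := by
    have : Fintype L := Fintype.ofFinite L
    letI : CommGroup Z :=
      { (inferInstance : Group Z) with mul_comm := fun a b => Subtype.ext (comm_of_le a.2 b.2) }
    let cj : H → Z →* Z := fun g =>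
      { toFun := fun z => ⟨g * z * g⁻¹, hn.conj_mem z z.2 g⟩
        map_one' := Subtype.ext (by simp)
        map_mul' := fun a b => Subtype.ext (by simp [mul_assoc]) }
    let ψ : Z →* Z :=
      { toFun := fun z => ∏ l : L, cj l z
        map_one' := Finset.prod_eq_one fun d _ => map_one _
        map_mul' := fun a b => by simp only [map_mul, Finset.prod_mul_distrib] }
    set K := ψ.ker.map Z.subtype with hK
    have hKZ : K ≤ Z := Subgroup.map_subtype_le _
    have hcjψ : ∀ g ∈ L, ∀ z, ψ (cj g z) = ψ z := by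
      intro g hg z
      show ∏ l : L, cj l (cj g z) = ∏ l : L, cj l z
      refine Fintype.prod_equiv (Equiv.mulRight (⟨g, hg⟩ : L)) _ _ fun d => Subtype.ext ?_
      show (d : H) * (g * z * g⁻¹) * (d : H)⁻¹ = d * g * z * (d * g)⁻¹
      group
    have hKn : K.Normal := by
      refine ⟨fun y hy g => ?_⟩
      obtain ⟨z, hz, rfl⟩ := hy
      obtain ⟨a, ha, l, hl, rfl⟩ := hdec g
      refine ⟨cj l z, (hcjψ l hl z).trans hz, ?_⟩
      show l * (z : H) * l⁻¹ = a * l * (z : H) * (a * l)⁻¹
      have e : a * l * (z : H) * (a * l)⁻¹ = a * (l * z * l⁻¹) * a⁻¹ := by group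
      rw [e, comm_of_le ha (hn.conj_mem z z.2 l), mul_inv_cancel_right]
    have hKi : Inv x K := by
      rintro _ ⟨z, hz, rfl⟩
      let xZ : Z →* Z :=
        { toFun := fun w => ⟨x w, hi w w.2⟩
          map_one' := Subtype.ext (map_one x)
          map_mul' := fun a b => Subtype.ext (map_mul x _ _) }
      refine ⟨xZ z, ?_, rfl⟩
      have hz' : ψ z = 1 := hz
      show ψ (xZ z) = 1
      have e : ψ (xZ z) = xZ (ψ z) := by
        show ∏ l : L, cj l (xZ z) = xZ (∏ l : L, cj l z)
        rw [map_prod]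
        let g : L → L := fun l => ⟨x l, hLi l l.2⟩
        have hg : Function.Bijective g := Finite.injective_iff_bijective.mp fun a b hab =>
          Subtype.ext (x.injective (congrArg Subtype.val hab))
        refine (Fintype.prod_bijective g hg _ _ fun l => Subtype.ext ?_).symm
        show x ((l : H) * z * (l : H)⁻¹) = x l * x z * (x l)⁻¹
        rw [map_mul, map_mul, map_inv]
      rw [e, hz', map_one]
    have hpow : ∀ z : Z, (z : H) ∈ Subgroup.center H → ψ z = z ^ Nat.card L := by
      intro z hz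
      show ∏ l : L, cj l z = _
      rw [Finset.prod_congr rfl (g := fun _ => z) fun l _ => Subtype.ext (by
        show (l : H) * z * (l : H)⁻¹ = z
        rw [Subgroup.mem_center_iff.mp hz l, mul_inv_cancel_right]),
        Finset.prod_const, Finset.card_univ, ← Nat.card_eq_fintype_card]
    have hone : ∀ z : Z, z ^ Nat.card L = 1 → z = 1 := fun z hz =>
      orderOf_eq_one_iff.mp (Nat.eq_one_of_dvd_coprimes hcop (orderOf_dvd_natCard z)
        (orderOf_dvd_of_pow_eq_one hz))
    by_cases hKZ' : K = Z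
    · rw [Subgroup.eq_bot_iff_forall]
      rintro z ⟨hz, hzc⟩
      obtain ⟨z', hz', e⟩ := hKZ'.ge hz
      have h1 : ψ z' = 1 := hz'
      rw [hpow z' (by rw [show (z' : H) = z from e]; exact hzc)] at h1
      rw [← e, hone z' h1]; rfl
    · exfalso
      have hKc : K ≤ Subgroup.center H := s.central_of_fixed hKn (hmin K hKZ hKn hKi hKZ')
      -- then every element of `Z` is central
      refine hmove fun z hz => hZ0 ?_
      rw [Subgroup.mem_center_iff]
      intro g
      obtain ⟨a, ha, l, hl, rfl⟩ := hdec g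
      set d : Z := cj l ⟨z, hz⟩ * (⟨z, hz⟩ : Z)⁻¹ with hd
      have hdc : (d : H) ∈ Subgroup.center H := hKc ⟨d, by
        show ψ d = 1
        rw [hd, map_mul, map_inv, hcjψ l hl, mul_inv_cancel], rfl⟩
      have hm : ∀ m : ℕ, l ^ m * z * (l ^ m)⁻¹ = (d : H) ^ m * z := by
        intro m
        induction m with
        | zero => simp
        | succ m ih =>
          have h1 : l * z * l⁻¹ = (d : H) * z := by
            show l * z * l⁻¹ = l * z * l⁻¹ * z⁻¹ * z
            group
          calc l ^ (m + 1) * z * (l ^ (m + 1))⁻¹ = l * (l ^ m * z * (l ^ m)⁻¹) * l⁻¹ := by group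
            _ = l * ((d : H) ^ m * z) * l⁻¹ := by rw [ih]
            _ = (l * (d : H) ^ m) * z * l⁻¹ := by group
            _ = ((d : H) ^ m * l) * z * l⁻¹ := by
                rw [Subgroup.mem_center_iff.mp (pow_mem hdc m) l]
            _ = (d : H) ^ m * (l * z * l⁻¹) := by group
            _ = _ := by rw [h1, pow_succ]; group
      have h2 := hm (Nat.card L)
      have hlp : l ^ Nat.card L = 1 := congrArg Subtype.val (pow_card_eq_one' (x := (⟨l, hl⟩ : L)))
      rw [hlp] at h2
      simp only [one_mul, inv_one, mul_one] at h2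
      have h3 : d = 1 := hone d (Subtype.ext (mul_eq_right.mp h2.symm))
      have h4 : l * z * l⁻¹ = z := by
        have h5 := congrArg Subtype.val h3
        simp only [hd] at h5
        exact mul_inv_eq_one.mp h5
      calc a * l * z = a * (l * z * l⁻¹) * l := by group
        _ = a * z * l := by rw [h4]
        _ = z * a * l := by rw [comm_of_le ha hz]
        _ = _ := by group
  have hirr0 : ∀ Z' ≤ Z, Z'.Normal → Inv x Z' → Z' = ⊥ ∨ Z' = Z := by
    intro Z' hle hn' hi'
    by_cases e : Z' = Z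
    · exact Or.inr e
    · refine Or.inl (le_bot_iff.mp (hC1 ▸ le_inf hle ?_))
      exact s.central_of_fixed hn' (hmin Z' hle hn' hi' e)
  -- a minimal invariant subgroup of `Z(L)`
  haveI : Nontrivial L := (Subgroup.nontrivial_iff_ne_bot L).mpr hL1
  set ZL := L ⊓ Subgroup.centralizer (L : Set H) with hZLdef
  have hZLne : ZL ≠ ⊥ := by
    obtain ⟨c, hc, hc1⟩ := (Subgroup.bot_or_exists_ne_one _).resolve_left
      ((Subgroup.nontrivial_iff_ne_bot _).mp hL.center_nontrivial)
    intro e
    have : (c : H) ∈ ZL := ⟨c.2, Subgroup.mem_centralizer_iff.mpr fun l hl =>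
      congrArg Subtype.val (Subgroup.mem_center_iff.mp hc ⟨l, hl⟩)⟩
    rw [e, Subgroup.mem_bot] at this
    exact hc1 (Subtype.ext this)
  obtain ⟨T, ⟨hTZ, hTi, hT1⟩, hTmin⟩ := Set.exists_min_image
    {T : Subgroup H | T ≤ ZL ∧ Inv x T ∧ T ≠ ⊥} (fun T => Nat.card T) (Set.toFinite _)
    ⟨ZL, le_rfl, inv_inf hLi (inv_centralizer (p := p) s.hx hLi), hZLne⟩
  have hTmin' : ∀ U ≤ T, Inv x U → U ≠ ⊥ → U = T := fun U hU hUi hU1 =>
    Subgroup.eq_of_le_of_card_ge hU (hTmin U ⟨hU.trans hTZ, hUi, hU1⟩)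
  have hTL : ∀ t ∈ T, ∀ l ∈ L, l * t = t * l := fun t ht l hl =>
    Subgroup.mem_centralizer_iff.mp (hTZ ht).2 l hl
  haveI : IsMulCommutative T :=
    ⟨⟨fun a b => Subtype.ext (hTL b b.2 a (hTZ a.2).1)⟩⟩
  have hcn : (cZ Z T).Normal := by
    refine ⟨fun w hw g => ?_⟩
    obtain ⟨a, ha, l, hl, rfl⟩ := hdec g
    have e : a * l * w * (a * l)⁻¹ = l * w * l⁻¹ := by
      calc a * l * w * (a * l)⁻¹ = a * (l * w * l⁻¹) * a⁻¹ := by group
        _ = _ := by rw [comm_of_le ha (hn.conj_mem w hw.1 l), mul_inv_cancel_right]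
    rw [e]
    refine ⟨hn.conj_mem w hw.1 l, Subgroup.mem_centralizer_iff.mpr fun t ht => ?_⟩
    have h1 : Commute t l := (hTL t ht l hl).symm
    have h2 : Commute t w := Subgroup.mem_centralizer_iff.mp hw.2 t ht
    exact ((h1.mul_right h2).mul_right h1.inv_right).eq
  rcases hirr0 (cZ Z T) inf_le_left hcn (inv_inf hi (inv_centralizer (p := p) s.hx hTi))
    with hcZ | hcZ
  swap
  · -- `T` is central
    have hTc : T ≤ Subgroup.center H := by
      intro t ht
      rw [Subgroup.mem_center_iff]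
      intro g
      obtain ⟨a, ha, l, hl, rfl⟩ := hdec g
      have h1 := Subgroup.mem_centralizer_iff.mp (hcZ.ge ha).2 t ht
      rw [mul_assoc, hTL t ht l hl, ← mul_assoc, ← h1, mul_assoc]
    refine hbad (s.quot T ⟨fun t ht g => ?_⟩ hTi hT1 ?_)
    · rw [Subgroup.mem_center_iff.mp (hTc ht) g, mul_inv_cancel_right]; exact ht
    · rintro t ⟨ht, htf⟩
      refine s.sub L hLi hLtop ⟨?_, htf⟩
      rw [hLc]; exact (hTZ ht).1
  set C := Z ⊓ fx x
  have hZ1 : Z ≠ ⊥ := fun e => hmove (e ▸ bot_le)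
  by_cases hTf : ∃ t ∈ T, x t = t ∧ t ≠ 1
  · obtain ⟨t, ht, htf, ht1⟩ := hTf
    have hzT : Subgroup.zpowers t = T := hTmin' _ (Subgroup.zpowers_le.mpr ht) (fun y hy => by
      obtain ⟨k, rfl⟩ := Subgroup.mem_zpowers_iff.mp hy
      rw [map_zpow, htf]; exact Subgroup.zpow_mem_zpowers t k) (by rwa [Ne, Subgroup.zpowers_eq_bot])
    have htgen : t ∈ gen x := s.sub L hLi hLtop ⟨by rw [hLc]; exact (hTZ ht).1, htf⟩
    let f : C → C := fun c => ⟨(c : H) * t * (c : H)⁻¹ * t⁻¹, by
      constructor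
      · have e : (c : H) * t * (c : H)⁻¹ * t⁻¹ = c * (t * (c : H)⁻¹ * t⁻¹) := by group
        rw [e]
        exact Z.mul_mem c.2.1 (hn.conj_mem _ (Z.inv_mem c.2.1) t)
      · exact (fx x).mul_mem ((fx x).mul_mem ((fx x).mul_mem c.2.2 htf) ((fx x).inv_mem c.2.2))
          ((fx x).inv_mem htf)⟩
    have hf : Function.Surjective f := Finite.injective_iff_surjective.mp fun a b hab => by
      have h' := congrArg Subtype.val hab
      simp only [f] at h'
      have h'' : (a : H) * t * (a : H)⁻¹ = b * t * (b : H)⁻¹ := mul_right_cancel h'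
      have hmem : (b : H)⁻¹ * a ∈ cZ Z T := by
        refine ⟨Z.mul_mem (Z.inv_mem b.2.1) a.2.1, Subgroup.mem_centralizer_iff.mpr fun u hu => ?_⟩
        rw [← hzT] at hu
        obtain ⟨k, rfl⟩ := Subgroup.mem_zpowers_iff.mp hu
        refine (Commute.zpow_left ?_ k).eq
        show t * ((b : H)⁻¹ * a) = (b : H)⁻¹ * a * t
        calc t * ((b : H)⁻¹ * a) = (b : H)⁻¹ * (b * t * (b : H)⁻¹) * a := by group
          _ = (b : H)⁻¹ * (a * t * (a : H)⁻¹) * a := by rw [h'']
          _ = _ := by group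
      rw [hcZ, Subgroup.mem_bot, inv_mul_eq_one] at hmem
      exact Subtype.ext hmem.symm
    refine hbad (s.quot Z hn hi hZ1 fun c hc => ?_)
    obtain ⟨c', hc'⟩ := hf ⟨c, hc⟩
    have : c = (c' : H) * t * (c' : H)⁻¹ * t⁻¹ := (congrArg Subtype.val hc').symm
    rw [this]
    exact mul_mem (gen_conj c'.2.2 htgen) (inv_mem htgen)
  push Not at hTf
  have hfree := free_main s.hx s.hp2 hn hi hTi hTf hT1 hZ1 hcZ
    (hcop.coprime_dvd_right (Subgroup.card_dvd_of_le (hTZ.trans inf_le_left))) hTmin' (by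
      intro Z' hle hi' hinv hne
      refine (hirr0 Z' hle ⟨fun w hw g => ?_⟩ hi').resolve_left hne
      obtain ⟨a, ha, l, hl, rfl⟩ := hdec g
      have e : a * l * w * (a * l)⁻¹ = l * w * l⁻¹ := by
        calc a * l * w * (a * l)⁻¹ = a * (l * w * l⁻¹) * a⁻¹ := by group
          _ = _ := by rw [comm_of_le ha (hn.conj_mem w (hle hw) l), mul_inv_cancel_right]
      rw [e]
      exact hinv l (Subgroup.mem_centralizer_iff.mpr fun t ht => (hTL t ht l hl).symm) w hw)
  apply hfree
  -- every element of `Z` has the form `h⁻¹ w h m⁻¹`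
  have hall : ∀ n ∈ Z, ∃ w ∈ C, ∃ m ∈ C, n = h⁻¹ * w * h * m⁻¹ := by
    intro n hnZ
    set D := dd x (h * n) with hD
    have hDsup : Z ⊔ D = ⊤ := by
      rw [eq_top_iff, ← hsup]
      refine sup_le le_sup_left (hdd.ge.trans ((Subgroup.closure_le _).mpr ?_))
      rintro _ ⟨i, rfl⟩
      have e : h⁻¹ * (x ^ i) h =
          n * ((h * n)⁻¹ * (x ^ i) (h * n)) * ((x ^ i) n)⁻¹ := by rw [map_mul]; group
      rw [SetLike.mem_coe, e]
      exact mul_mem (mul_mem (Subgroup.mem_sup_left hnZ) (Subgroup.mem_sup_right (c_mem_dd x _ i)))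
        (inv_mem (Subgroup.mem_sup_left (hi.pow i n hnZ)))
    have hdecD : ∀ g, ∃ z ∈ Z, ∃ d ∈ D, g = z * d := by
      intro g
      have hg : g ∈ ((Z ⊔ D : Subgroup H) : Set H) := by rw [hDsup]; trivial
      rw [Subgroup.normal_mul] at hg
      obtain ⟨z, hz, d, hd, rfl⟩ := hg
      exact ⟨z, hz, d, hd, rfl⟩
    rcases hirr0 (Z ⊓ D) inf_le_left ⟨fun w hw g => by
        refine ⟨hn.conj_mem w hw.1 g, ?_⟩
        obtain ⟨a, ha, d, hd, rfl⟩ := hdecD g
        have e : a * d * w * (a * d)⁻¹ = d * w * d⁻¹ := by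
          calc a * d * w * (a * d)⁻¹ = a * (d * w * d⁻¹) * a⁻¹ := by group
            _ = _ := by rw [comm_of_le ha (hn.conj_mem w hw.1 d), mul_inv_cancel_right]
        rw [e]
        exact D.mul_mem (D.mul_mem hd hw.2) (D.inv_mem hd)⟩ (inv_inf hi (inv_dd x _)) with hZD | hZD
    swap
    · exfalso
      have hDtop : D = ⊤ := by
        rw [eq_top_iff, ← hDsup]
        exact sup_le (hZD.ge.trans inf_le_right) le_rfl
      exact hbad fun f hf => le_gen (h := h * n) (by rw [← hD, hDtop]; trivial) hf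
    -- `D` is a complement
    have hcardL : Nat.card Z * Nat.card L = Nat.card H :=
      (Subgroup.isComplement'_of_disjoint_and_mul_eq_univ (disjoint_iff.mpr hZL)
        (by rw [← Subgroup.normal_mul, hsup]; rfl)).card_mul_card
    have hcardD : Nat.card Z * Nat.card D = Nat.card H :=
      (Subgroup.isComplement'_of_disjoint_and_mul_eq_univ (disjoint_iff.mpr hZD)
        (by rw [← Subgroup.normal_mul, hDsup]; rfl)).card_mul_card
    have hDL : Nat.card D = Nat.card L :=
      Nat.eq_of_mul_eq_mul_left Nat.card_pos (hcardD.trans hcardL.symm)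
    have hfac : q ^ (Nat.card H).factorization q = Nat.card L := by
      rw [← hcardL, Nat.factorization_mul Nat.card_pos.ne' Nat.card_pos.ne', Finsupp.add_apply,
        Nat.factorization_eq_zero_of_not_dvd hq, zero_add, hk,
        (Fact.out : q.Prime).factorization_pow, Finsupp.single_eq_same]
    let S₁ : Sylow q H := Sylow.ofCard L hfac.symm
    let S₂ : Sylow q H := Sylow.ofCard D (hDL.trans hfac.symm)
    obtain ⟨g, hg⟩ := MulAction.exists_smul_eq H S₁ S₂
    obtain ⟨m, hm, l, hl, rfl⟩ := hdec g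
    have hDm : ∀ d, d ∈ D ↔ ∃ e ∈ L, d = m * e * m⁻¹ := by
      intro d
      constructor
      · intro hd
        have hd' : d ∈ (((m * l) • S₁ : Sylow q H) : Subgroup H) := by rw [hg]; exact hd
        obtain ⟨e, he, hed⟩ := hd'
        refine ⟨l * e * l⁻¹, L.mul_mem (L.mul_mem hl he) (L.inv_mem hl), ?_⟩
        rw [← hed]
        show m * l * e * (m * l)⁻¹ = _
        group
      · rintro ⟨e, he, rfl⟩
        show m * e * m⁻¹ ∈ (S₂ : Subgroup H)
        rw [← hg]
        refine ⟨l⁻¹ * e * l, L.mul_mem (L.mul_mem (L.inv_mem hl) he) hl, ?_⟩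
        show m * l * (l⁻¹ * e * l) * (m * l)⁻¹ = _
        group
    have hmfix : x m = m := by
      have hu : m⁻¹ * x m ∈ Z := Z.mul_mem (Z.inv_mem hm) (hi m hm)
      have hc : m⁻¹ * x m ∈ cZ Z T := by
        refine ⟨hu, Subgroup.mem_centralizer_iff.mpr fun t ht => ?_⟩
        obtain ⟨t', rfl⟩ := x.surjective t
        have ht' : t' ∈ T := by
          have h := hTi.pow (p - 1) _ ht
          rwa [← MulAut.mul_apply, ← pow_succ, Nat.sub_add_cancel hp.out.one_le, s.hx] at h
        have htL : x t' ∈ L := (hTZ ht).1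
        have h1 : x (m * t' * m⁻¹) ∈ D :=
          inv_dd x (h * n) _ ((hDm _).mpr ⟨t', (hTZ ht').1, rfl⟩)
        obtain ⟨e, he, hee⟩ := (hDm _).mp h1
        rw [map_mul, map_mul, map_inv] at hee
        set u := m⁻¹ * x m with hudef
        have h2 : u * x t' * u⁻¹ = e := by
          calc u * x t' * u⁻¹ = m⁻¹ * (x m * x t' * (x m)⁻¹) * m := by rw [hudef]; group
            _ = m⁻¹ * (m * e * m⁻¹) * m := by rw [hee]
            _ = e := by group
        have h3 : x t' = e := huniq _ htL e he (by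
          rw [← h2]
          have h4 := Z.mul_mem (hn.conj_mem _ hu (x t')⁻¹) (Z.inv_mem hu)
          simpa [mul_assoc] using h4)
        rw [← h3] at h2
        exact (mul_inv_eq_iff_eq_mul.mp h2).symm
      rw [hcZ, Subgroup.mem_bot, inv_mul_eq_one] at hc
      exact hc.symm
    obtain ⟨e, he, hee⟩ := (hDm _).mp (c_mem_dd x (h * n) 1)
    rw [pow_one, map_mul] at hee
    set c := h⁻¹ * x h with hcdef
    have hcL : c ∈ L := L.mul_mem (L.inv_mem hh) (hLi h hh)
    have hec : c = e := by
      refine huniq c hcL e he ?_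
      have h1 : e = m⁻¹ * n⁻¹ * c * x n * m := by
        calc e = m⁻¹ * (m * e * m⁻¹) * m := by group
          _ = m⁻¹ * ((h * n)⁻¹ * (x h * x n)) * m := by rw [hee]
          _ = _ := by rw [hcdef]; group
      have e2 : c⁻¹ * e = (c⁻¹ * (m⁻¹ * n⁻¹) * c⁻¹⁻¹) * (x n * m) := by rw [h1]; group
      rw [e2]
      exact Z.mul_mem (hn.conj_mem _ (Z.mul_mem (Z.inv_mem hm) (Z.inv_mem hnZ)) _)
        (Z.mul_mem (hi n hnZ) hm)
    subst hec
    have h1 : c * (x n * m) = n * m * c := by
      calc c * (x n * m) = n * ((h * n)⁻¹ * (x h * x n)) * m := by rw [hcdef]; group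
        _ = n * (m * c * m⁻¹) * m := by rw [hee]
        _ = _ := by group
    have hxv : x (n * m) = x n * m := by rw [map_mul, hmfix]
    set v := n * m with hv
    have hw : x (h * v * h⁻¹) = h * v * h⁻¹ := by
      have hxh : x h = h * c := by rw [hcdef, mul_inv_cancel_left]
      calc x (h * v * h⁻¹) = x h * (x n * m) * (x h)⁻¹ := by rw [map_mul, map_mul, map_inv, hxv]
        _ = h * (c * (x n * m)) * c⁻¹ * h⁻¹ := by rw [hxh]; group
        _ = h * (v * c) * c⁻¹ * h⁻¹ := by rw [h1]
        _ = _ := by group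
    exact ⟨h * v * h⁻¹, ⟨hn.conj_mem v (Z.mul_mem hnZ hm) h, hw⟩, m, ⟨hm, hmfix⟩,
      by rw [hv]; group⟩
  choose w hw m hm hwm using hall
  rw [← Nat.card_prod]
  refine Nat.card_le_card_of_injective
    (fun n : Z => ((⟨w n n.2, hw n n.2⟩ : C), (⟨m n n.2, hm n n.2⟩ : C))) fun a b hab => ?_
  have e1 : w a a.2 = w b b.2 := congrArg (fun y => ((Prod.fst y : C) : H)) hab
  have e2 : m a a.2 = m b b.2 := congrArg (fun y => ((Prod.snd y : C) : H)) hab
  exact Subtype.ext (by rw [hwm a a.2, hwm b b.2, e1, e2])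

end Setup

end Cfsg.Agent.Grp.OddFix
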