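import Cfsg.Agent.Lib.Grp.OddFix.Basic

/-!
An abelian group moved fixed-point-freely by an automorphism of odd prime order, acting on an
abelian normal subgroup without fixed points, leaves the automorphism few fixed points there.
-/

set_option linter.unusedSectionVars false
set_option linter.style.haveILetI false
set_option maxHeartbeats 1600000

namespace Cfsg.Agent.Grp.OddFix

variable {H : Type*} [Group H] [Finite H] {x : MulAut H} {p : ℕ} [hp : Fact p.Prime]

theorem orbit_three {α : Type*} (f : α → α) (a : α) (hp2 : p ≠ 2) (hper : f^[p] a = a)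
    (h : f (f a) = a) : f a = a := by
  have h2 : ∀ k, f^[2 * k] a = a := by
    intro k
    induction k with
    | zero => rfl
    | succ k ih =>
      rw [show 2 * (k + 1) = 2 * k + 2 by ring, Function.iterate_add_apply]
      show f^[2 * k] (f (f a)) = a
      rw [h, ih]
  obtain ⟨k, hk⟩ : Odd p := hp.out.odd_of_ne_two hp2
  rw [hk, show 2 * k + 1 = (2 * k).succ from rfl, Function.iterate_succ_apply'] at hper
  rw [h2] at hper
  exact hper

theorem iterate_eq_pow (x : MulAut H) (i : ℕ) : (⇑x)^[i] = ⇑(x ^ i) := by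
  induction i with
  | zero => rfl
  | succ i ih =>
    ext y
    rw [Function.iterate_succ_apply', ih, pow_succ', MulAut.mul_apply]

theorem comm_of_le {Z : Subgroup H} [IsMulCommutative Z] {a b : H} (ha : a ∈ Z) (hb : b ∈ Z) :
    a * b = b * a :=
  congrArg Subtype.val (mul_comm' (⟨a, ha⟩ : Z) (⟨b, hb⟩ : Z))

/-- the case of a fixed-point-free action -/
theorem free_cyclic (hx : x ^ p = 1) (hp2 : p ≠ 2) {Z T : Subgroup H}
    [IsMulCommutative Z] [IsMulCommutative T] (hZn : Z.Normal) (hT : Inv x T)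
    (hxT : ∀ t ∈ T, x t = t → t = 1) (hT1 : T ≠ ⊥) (hZ : Z ≠ ⊥)
    (hfpf : ∀ d ∈ T, d ≠ 1 → ∀ z ∈ Z, d * z = z * d → z = 1) :
    ¬ Nat.card Z ≤ Nat.card ↥(Z ⊓ fx x) * Nat.card ↥(Z ⊓ fx x) := by
  intro hle
  obtain ⟨t, htT, ht1⟩ := (Subgroup.bot_or_exists_ne_one T).resolve_left hT1
  have hxt : x t ≠ t := fun h => ht1 (hxT t htT h)
  set C := Z ⊓ fx x with hC
  have hconj : ∀ d : H, ∀ z ∈ Z, d * z * d⁻¹ ∈ Z := fun d z hz => hZn.conj_mem z hz d
  let φ : C × C → Z := fun ab =>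
    ⟨(ab.1 : H) * (t * ab.2 * t⁻¹), Z.mul_mem ab.1.2.1 (hconj t _ ab.2.2.1)⟩
  have key : ∀ b ∈ C, t * b * t⁻¹ ∈ fx x → b = 1 := by
    intro b hb hfix
    by_contra hb1
    have h1 : x t * b * (x t)⁻¹ = t * b * t⁻¹ := by
      have h := mem_fx.mp hfix
      rwa [map_mul, map_mul, map_inv, mem_fx.mp hb.2] at h
    have hne : t⁻¹ * x t ≠ 1 := fun h => hxt (inv_mul_eq_one.mp h).symm
    refine hb1 (hfpf (t⁻¹ * x t) (T.mul_mem (T.inv_mem htT) (hT t htT)) hne b hb.1 ?_)
    calc t⁻¹ * x t * b = t⁻¹ * (x t * b * (x t)⁻¹) * x t := by group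
      _ = t⁻¹ * (t * b * t⁻¹) * x t := by rw [h1]
      _ = b * (t⁻¹ * x t) := by group
  have hinj : Function.Injective φ := by
    rintro ⟨a, b⟩ ⟨a', b'⟩ h
    have h' : (a : H) * (t * b * t⁻¹) = a' * (t * b' * t⁻¹) := congrArg Subtype.val h
    have e : t * ((b : H) * (b' : H)⁻¹) * t⁻¹ = (a : H)⁻¹ * a' := by
      calc t * ((b : H) * (b' : H)⁻¹) * t⁻¹
          = (a : H)⁻¹ * ((a : H) * (t * b * t⁻¹)) * (t * b' * t⁻¹)⁻¹ := by group
        _ = (a : H)⁻¹ * ((a' : H) * (t * b' * t⁻¹)) * (t * b' * t⁻¹)⁻¹ := by rw [h']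
        _ = (a : H)⁻¹ * a' := by group
    have hb : (b : H) * (b' : H)⁻¹ = 1 := key _ (C.mul_mem b.2 (C.inv_mem b'.2))
      (by rw [e]; exact (C.mul_mem (C.inv_mem a.2) a'.2).2)
    have hbb : b = b' := Subtype.ext (mul_inv_eq_one.mp hb)
    subst hbb
    have : a = a' := Subtype.ext (mul_right_cancel h')
    subst this
    rfl
  have hsurj : Function.Surjective φ := by
    have := hinj.bijective_of_nat_card_le (by rw [Nat.card_prod]; exact hle)
    exact this.2
  -- the orbit of `t`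
  have htt : x t ∈ T := hT t htT
  have httt : x (x t) ∈ T := hT _ htt
  have hne02 : x (x t) ≠ t := fun h => hxt (orbit_three (p := p) x t hp2
    (by rw [iterate_eq_pow, hx]; rfl) h)
  have hne12 : x (x t) ≠ x t := fun h => hxt (x.injective h)
  have hzero : ∀ c ∈ C, c = 1 := by
    intro c hc
    obtain ⟨⟨a, b⟩, hab⟩ := hsurj ⟨t * (t * c * t⁻¹) * t⁻¹, hconj t _ (hconj t c hc.1)⟩
    have hab' : (a : H) * (t * b * t⁻¹) = t * (t * c * t⁻¹) * t⁻¹ := congrArg Subtype.val hab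
    have hE : ∀ i : ℕ, (a : H) * ((x ^ i) t * b * ((x ^ i) t)⁻¹) =
        (x ^ i) t * ((x ^ i) t * c * ((x ^ i) t)⁻¹) * ((x ^ i) t)⁻¹ := by
      intro i
      have h := congrArg (x ^ i) hab'
      simp only [map_mul, map_inv, pow_apply_fixed (mem_fx.mp hc.2),
        pow_apply_fixed (mem_fx.mp a.2.2), pow_apply_fixed (mem_fx.mp b.2.2)] at h
      exact h
    have main : ∀ s u : H, s ∈ T → u ∈ T → u⁻¹ * s ≠ 1 →
        (a : H) * (s * b * s⁻¹) = s * (s * c * s⁻¹) * s⁻¹ →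
        (a : H) * (u * b * u⁻¹) = u * (u * c * u⁻¹) * u⁻¹ →
        (s * c * s⁻¹) * (u * c * u⁻¹) = b := by
      intro s u hs hu hne hEs hEu
      set y := (s * c * s⁻¹) * (u * c * u⁻¹) * (b : H)⁻¹ with hy
      have hyZ : y ∈ Z := Z.mul_mem (Z.mul_mem (hconj s c hc.1) (hconj u c hc.1)) (Z.inv_mem b.2.1)
      have hsu : s * u = u * s := comm_of_le hs hu
      have hmix : s * (u * c * u⁻¹) * s⁻¹ = u * (s * c * s⁻¹) * u⁻¹ := by
        calc s * (u * c * u⁻¹) * s⁻¹ = (s * u) * c * (s * u)⁻¹ := by group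
          _ = (u * s) * c * (u * s)⁻¹ := by rw [hsu]
          _ = _ := by group
      have h1 : s * y * s⁻¹ = (a : H) * (u * (s * c * s⁻¹) * u⁻¹) := by
        rw [hy, ← hmix]
        calc s * (s * c * s⁻¹ * (u * c * u⁻¹) * (b : H)⁻¹) * s⁻¹
            = (s * (s * c * s⁻¹) * s⁻¹) * (s * (u * c * u⁻¹) * s⁻¹) * (s * b * s⁻¹)⁻¹ := by group
          _ = (a : H) * ((s * b * s⁻¹) * (s * (u * c * u⁻¹) * s⁻¹)) * (s * b * s⁻¹)⁻¹ := by
              rw [← hEs]; group
          _ = (a : H) * ((s * (u * c * u⁻¹) * s⁻¹) * (s * b * s⁻¹)) * (s * b * s⁻¹)⁻¹ := by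
              rw [comm_of_le (hconj s _ b.2.1) (hconj s _ (hconj u c hc.1))]
          _ = _ := by group
      have h2 : u * y * u⁻¹ = (a : H) * (u * (s * c * s⁻¹) * u⁻¹) := by
        calc u * y * u⁻¹ = (u * (s * c * s⁻¹) * u⁻¹) * (u * (u * c * u⁻¹) * u⁻¹) *
              (u * b * u⁻¹)⁻¹ := by rw [hy]; group
          _ = (u * (s * c * s⁻¹) * u⁻¹) * ((a : H) * (u * b * u⁻¹)) * (u * b * u⁻¹)⁻¹ := by
              rw [hEu]
          _ = (u * (s * c * s⁻¹) * u⁻¹) * (a : H) := by group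
          _ = _ := comm_of_le (hconj u _ (hconj s c hc.1)) a.2.1
      have h3 : (u⁻¹ * s) * y = y * (u⁻¹ * s) := by
        calc u⁻¹ * s * y = u⁻¹ * (s * y * s⁻¹) * s := by group
          _ = u⁻¹ * (u * y * u⁻¹) * s := by rw [h1, h2]
          _ = y * (u⁻¹ * s) := by group
      exact mul_inv_eq_one.mp (hfpf _ (T.mul_mem (T.inv_mem hu) hs) hne y hyZ h3)
    have hE0 := hE 0
    have hE1 := hE 1
    have hE2 := hE 2
    rw [pow_zero] at hE0
    rw [pow_one] at hE1
    rw [pow_two] at hE2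
    simp only [MulAut.one_apply] at hE0
    simp only [MulAut.mul_apply] at hE2
    have g1 := main t (x t) htT htt (fun h => hxt (inv_mul_eq_one.mp h)) hE0 hE1
    have g2 := main t (x (x t)) htT httt (fun h => hne02 (inv_mul_eq_one.mp h)) hE0 hE2
    have g3 : x t * c * (x t)⁻¹ = x (x t) * c * (x (x t))⁻¹ :=
      mul_left_cancel (g1.trans g2.symm)
    refine hfpf ((x (x t))⁻¹ * x t) (T.mul_mem (T.inv_mem httt) htt)
      (fun h => hne12 (inv_mul_eq_one.mp h)) c hc.1 ?_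
    calc (x (x t))⁻¹ * x t * c = (x (x t))⁻¹ * (x t * c * (x t)⁻¹) * x t := by group
      _ = (x (x t))⁻¹ * (x (x t) * c * (x (x t))⁻¹) * x t := by rw [g3]
      _ = c * ((x (x t))⁻¹ * x t) := by group
  have hCbot : C = ⊥ := (Subgroup.eq_bot_iff_forall _).mpr hzero
  rw [hCbot, Subgroup.card_bot, mul_one] at hle
  exact hZ (Subgroup.eq_bot_of_card_le _ hle)

/-- centralisers in `Z` -/
abbrev cZ (Z U : Subgroup H) : Subgroup H := Z ⊓ Subgroup.centralizer (U : Set H)

theorem free_main (hx : x ^ p = 1) (hp2 : p ≠ 2) {Z T : Subgroup H}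
    [IsMulCommutative Z] [IsMulCommutative T] (hZn : Z.Normal) (hZi : Inv x Z) (hT : Inv x T)
    (hxT : ∀ t ∈ T, x t = t → t = 1) (hT1 : T ≠ ⊥) (hZ : Z ≠ ⊥)
    (hcZT : cZ Z T = ⊥) (hcop : (Nat.card Z).Coprime (Nat.card T))
    (hTmin : ∀ U ≤ T, Inv x U → U ≠ ⊥ → U = T)
    (hirr : ∀ Z' ≤ Z, Inv x Z' →
      (∀ g ∈ Subgroup.centralizer (T : Set H), ∀ z ∈ Z', g * z * g⁻¹ ∈ Z') → Z' ≠ ⊥ → Z' = Z) :
    ¬ Nat.card Z ≤ Nat.card ↥(Z ⊓ fx x) * Nat.card ↥(Z ⊓ fx x) := by
  classical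
  obtain ⟨U, ⟨hUT, hUne⟩, hUmax⟩ := Set.exists_max_image
    {U : Subgroup H | U ≤ T ∧ cZ Z U ≠ ⊥} (fun U => Nat.card U) (Set.toFinite _)
    ⟨⊥, bot_le, by
      have e : cZ Z (⊥ : Subgroup H) = Z := inf_eq_left.mpr fun z _ =>
        Subgroup.mem_centralizer_iff.mpr fun y hy => by
          rw [Subgroup.mem_bot.mp hy, one_mul, mul_one]
      rwa [e]⟩
  by_cases hU : U = ⊥
  · refine free_cyclic hx hp2 hZn hT hxT hT1 hZ fun d hd hd1 z hz hdz => ?_
    by_contra hz1
    have hmem : z ∈ cZ Z (Subgroup.zpowers d) := ⟨hz, Subgroup.mem_centralizer_iff.mpr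
      fun y hy => by
        obtain ⟨k, rfl⟩ := Subgroup.mem_zpowers_iff.mp hy
        exact ((show Commute d z from hdz).zpow_left k).eq⟩
    have h := hUmax (Subgroup.zpowers d) ⟨Subgroup.zpowers_le.mpr hd, fun e => hz1 (by
      rw [e] at hmem; exact hmem)⟩
    simp only [hU, Subgroup.card_bot] at h
    exact hd1 (Subgroup.zpowers_eq_bot.mp (Subgroup.eq_bot_of_card_le _ h))
  intro hle
  let X : ℕ → (H →* H) := fun i => ((x ^ i : MulAut H) : H →* H)
  have hXinj : ∀ i, Function.Injective (X i) := fun i => (x ^ i).injective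
  let Us : ℕ → Subgroup H := fun i => U.map (X i)
  let Ns : ℕ → Subgroup H := fun i => cZ Z (Us i)
  have hUsT : ∀ i, Us i ≤ T := fun i => by
    rintro _ ⟨y, hy, rfl⟩
    exact hT.pow i y (hUT hy)
  have hmem : ∀ i y, y ∈ Z → ((x ^ i) y ∈ Ns i ↔ y ∈ cZ Z U) := by
    intro i y hy
    constructor
    · rintro ⟨-, h⟩
      refine ⟨hy, Subgroup.mem_centralizer_iff.mpr fun u hu => hXinj i ?_⟩
      have := Subgroup.mem_centralizer_iff.mp h _ ⟨u, hu, rfl⟩
      simpa [X] using this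
    · rintro ⟨-, h⟩
      refine ⟨hZi.pow i y hy, Subgroup.mem_centralizer_iff.mpr ?_⟩
      rintro _ ⟨u, hu, rfl⟩
      have := congrArg (x ^ i) (Subgroup.mem_centralizer_iff.mp h u hu)
      simpa [X] using this
  have hUnot : ¬ Inv x U := fun h => by
    have := hTmin U hUT h hU
    subst this
    exact hUne hcZT
  have hperiod : ∀ y : H, (x ^ p) y = y := fun y => by rw [hx]; rfl
  have hmodp : ∀ i, Us (i % p) = Us i := fun i => by
    show U.map _ = U.map _
    congr 1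
    show ((x ^ (i % p) : MulAut H) : H →* H) = ((x ^ i : MulAut H) : H →* H)
    rw [← pow_eq_pow_mod i hx]
  have hdist : ∀ i j, i < p → j < p → Us i = Us j → i = j := by
    intro i j hi hj h
    by_contra hne
    obtain ⟨d, hd, hd0⟩ : ∃ d, (d + i) % p = j ∧ d % p ≠ 0 := by
      refine ⟨j + p - i, ?_, ?_⟩
      · rw [Nat.sub_add_cancel (by omega), Nat.add_mod_right, Nat.mod_eq_of_lt hj]
      · intro h0
        obtain ⟨k, hk⟩ := Nat.dvd_of_mod_eq_zero h0
        rcases k with _ | _ | k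
        · omega
        · omega
        · have : p * (k + 1 + 1) ≥ p * 2 := Nat.mul_le_mul_left p (by omega)
          omega
    have hstep : ∀ i d, Us (d + i) = (Us i).map (X d) := fun i d => by
      show U.map _ = (U.map _).map _
      rw [Subgroup.map_map]
      congr 1
      ext y
      show (x ^ (d + i)) y = (x ^ d) ((x ^ i) y)
      rw [pow_add, MulAut.mul_apply]
    have hfixUs : (Us i).map (X d) = Us i := by rw [← hstep, ← hmodp, hd, ← h]
    have hall : ∀ k, (Us i).map (X (d * k)) = Us i := by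
      intro k
      induction k with
      | zero => rw [mul_zero]; exact (Us i).map_id
      | succ k ih =>
        have : X (d * (k + 1)) = (X d).comp (X (d * k)) := by
          ext y
          show (x ^ (d * (k + 1))) y = (x ^ d) ((x ^ (d * k)) y)
          rw [← MulAut.mul_apply, ← pow_add]; ring_nf
        rw [this, ← Subgroup.map_map, ih, hfixUs]
    obtain ⟨k, hk⟩ : ∃ k, d * k % p = 1 := by
      have hc : Nat.Coprime d p := (hp.out.coprime_iff_not_dvd.mpr
        fun hdd => hd0 (Nat.mod_eq_zero_of_dvd hdd)).symm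
      obtain ⟨k, hk⟩ := Nat.exists_mul_mod_eq_one_of_coprime hc hp.out.one_lt
      exact ⟨k, hk.2⟩
    have h1 : (Us i).map (X 1) = Us i := by
      have h := hall k
      rwa [show X (d * k) = X 1 from by
        show ((x ^ (d * k) : MulAut H) : H →* H) = ((x ^ 1 : MulAut H) : H →* H)
        rw [pow_eq_pow_mod _ hx, hk]] at h
    apply hUnot
    intro y hy
    have hy' : (x ^ i) y ∈ Us i := ⟨y, hy, rfl⟩
    have : (X 1) ((x ^ i) y) ∈ Us i := h1.le ⟨_, hy', rfl⟩
    obtain ⟨u, hu, hue⟩ := this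
    have : u = x y := hXinj i (by
      show (x ^ i) u = (x ^ i) (x y)
      have e : (x ^ i) u = (x ^ 1) ((x ^ i) y) := hue
      rw [e, ← MulAut.mul_apply, ← pow_add, add_comm, pow_add, pow_one, MulAut.mul_apply])
    exact this ▸ hu
  have hcard : ∀ i, Nat.card (Us i) = Nat.card U := fun i =>
    Subgroup.card_map_of_injective (hXinj i)
  have hinter : ∀ i j, i < p → j < p → i ≠ j → ∀ z ∈ Ns i, z ∈ Ns j → z = 1 := by
    intro i j hi hj hne z hzi hzj
    by_contra hz1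
    have hzc : z ∈ cZ Z (Us i ⊔ Us j) := ⟨hzi.1, by
      have hle : (Us i ⊔ Us j) ≤ Subgroup.centralizer ({z} : Set H) := sup_le
        (fun u hu => Subgroup.mem_centralizer_singleton_iff.mpr
          (Subgroup.mem_centralizer_iff.mp hzi.2 u hu))
        (fun u hu => Subgroup.mem_centralizer_singleton_iff.mpr
          (Subgroup.mem_centralizer_iff.mp hzj.2 u hu))
      exact Subgroup.mem_centralizer_iff.mpr fun u hu =>
        Subgroup.mem_centralizer_singleton_iff.mp (hle hu)⟩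
    have h := hUmax (Us i ⊔ Us j) ⟨sup_le (hUsT i) (hUsT j), fun e => hz1 (by
      rw [e] at hzc; exact hzc)⟩
    have e1 : Us i = Us i ⊔ Us j :=
      Subgroup.eq_of_le_of_card_ge le_sup_left (by rw [hcard]; exact h)
    have e2 : Us j = Us i ⊔ Us j :=
      Subgroup.eq_of_le_of_card_ge le_sup_right (by rw [hcard]; exact h)
    exact hne (hdist i j hi hj (e1.trans e2.symm))
  -- traces
  letI : CommGroup Z :=
    { (inferInstance : Group Z) with mul_comm := fun a b => Subtype.ext (comm_of_le a.2 b.2) }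
  let cj : H → Z →* Z := fun g =>
    { toFun := fun z => ⟨g * z * g⁻¹, hZn.conj_mem z z.2 g⟩
      map_one' := Subtype.ext (by simp)
      map_mul' := fun a b => Subtype.ext (by simp [mul_assoc]) }
  have : ∀ i, Fintype (Us i) := fun i => Fintype.ofFinite _
  let τ : ℕ → (Z →* Z) := fun i =>
    { toFun := fun z => ∏ d : Us i, cj d z
      map_one' := Finset.prod_eq_one fun d _ => map_one _
      map_mul' := fun a b => by simp only [map_mul, Finset.prod_mul_distrib] }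
  have hτN : ∀ i (z : Z), ((τ i z : Z) : H) ∈ Ns i := by
    intro i z
    refine ⟨(τ i z).2, Subgroup.mem_centralizer_iff.mpr fun u hu => ?_⟩
    have e : cj u (τ i z) = τ i z := by
      show cj u (∏ d : Us i, cj d z) = ∏ d : Us i, cj d z
      rw [map_prod]
      refine Fintype.prod_equiv (Equiv.mulLeft (⟨u, hu⟩ : Us i)) _ _ fun d => Subtype.ext ?_
      show u * ((d : H) * z * (d : H)⁻¹) * u⁻¹ = u * d * z * (u * d)⁻¹
      group
    have e' : u * (τ i z : H) * u⁻¹ = (τ i z : H) := congrArg Subtype.val e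
    calc u * (τ i z : H) = u * (τ i z : H) * u⁻¹ * u := by group
      _ = _ := by rw [e']
  have hstab : ∀ j, ∀ g ∈ Subgroup.centralizer (T : Set H), ∀ z ∈ Ns j, g * z * g⁻¹ ∈ Ns j := by
    intro j g hg z hz
    refine ⟨hZn.conj_mem z hz.1 g, Subgroup.mem_centralizer_iff.mpr fun u hu => ?_⟩
    have h1 := Subgroup.mem_centralizer_iff.mp hg u (hUsT j hu)
    have h2 := Subgroup.mem_centralizer_iff.mp hz.2 u hu
    exact (((show Commute u g from h1).mul_right (show Commute u z from h2)).mul_right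
      (show Commute u g from h1).inv_right).eq
  have hTc : ∀ d ∈ T, d ∈ Subgroup.centralizer (T : Set H) := fun d hd =>
    Subgroup.mem_centralizer_iff.mpr fun e he => comm_of_le he hd
  have hτeq : ∀ i (z : Z), (z : H) ∈ Ns i → τ i z = z ^ Nat.card U := by
    intro i z hz
    show ∏ d : Us i, cj d z = _
    rw [Finset.prod_congr rfl (g := fun _ => z) fun d _ => Subtype.ext (by
      show (d : H) * z * (d : H)⁻¹ = z
      rw [Subgroup.mem_centralizer_iff.mp hz.2 d d.2, mul_inv_cancel_right]),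
      Finset.prod_const, Finset.card_univ, ← Nat.card_eq_fintype_card, hcard]
  have hτzero : ∀ i j, i < p → j < p → i ≠ j → ∀ z : Z, (z : H) ∈ Ns j → τ i z = 1 := by
    intro i j hi hj hne z hz
    refine Subtype.ext (hinter i j hi hj hne _ (hτN i z) ?_)
    have h : τ i z ∈ (Ns j).subgroupOf Z := by
      refine Subgroup.prod_mem _ fun d _ => ?_
      exact hstab j d (hTc d (hUsT i d.2)) z hz
    exact h
  have hUcop : (Nat.card Z).Coprime (Nat.card U) :=
    hcop.coprime_dvd_right (Subgroup.card_dvd_of_le hUT)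
  have hpowU : ∀ z : Z, z ^ Nat.card U = 1 → z = 1 := fun z hz => by
    have h1 : orderOf z ∣ Nat.card U := orderOf_dvd_of_pow_eq_one hz
    have h2 : orderOf z ∣ Nat.card Z := orderOf_dvd_natCard z
    exact orderOf_eq_one_iff.mp (Nat.eq_one_of_dvd_coprimes hUcop h2 h1)
  -- the sum of the translates is everything
  let M0 : Subgroup H := ⨆ i : Fin p, Ns i
  have hM0Z : M0 ≤ Z := iSup_le fun i => inf_le_left
  have hxNs : ∀ i, i < p → ∀ z ∈ Ns i, x z ∈ Ns ((i + 1) % p) := by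
    intro i hi z hz
    have hzz : z = (x ^ i) ((x ^ i)⁻¹ z) := by rw [MulAut.apply_inv_self]
    have hinvZ : (x ^ i)⁻¹ z ∈ Z := by
      have e : (x ^ i)⁻¹ = x ^ (p - i) := by
        rw [inv_eq_iff_mul_eq_one, ← pow_add, Nat.add_sub_cancel' hi.le, hx]
      rw [e]; exact hZi.pow _ z hz.1
    have h0 : (x ^ i)⁻¹ z ∈ cZ Z U := (hmem i _ hinvZ).mp (by rw [← hzz]; exact hz)
    have h1 := (hmem ((i + 1) % p) _ h0.1).mpr h0
    have e : x z = (x ^ ((i + 1) % p)) ((x ^ i)⁻¹ z) := by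
      rw [← pow_eq_pow_mod (i + 1) hx, pow_succ', MulAut.mul_apply, MulAut.apply_inv_self]
    rw [e]
    exact h1
  have hM0i : Inv x M0 := by
    intro y hy
    refine Subgroup.iSup_induction (fun i : Fin p => Ns i) (C := fun y => x y ∈ M0) hy ?_ ?_ ?_
    · intro i z hz
      have h1 : x z ∈ Ns ((i + 1) % p) := hxNs i i.2 z hz
      exact Subgroup.mem_iSup_of_mem (S := fun i : Fin p => Ns i)
        (⟨((i : ℕ) + 1) % p, Nat.mod_lt _ hp.out.pos⟩ : Fin p) h1
    · rw [map_one]; exact one_mem _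
    · intro a b ha hb; rw [map_mul]; exact mul_mem ha hb
  have hM0g : ∀ g ∈ Subgroup.centralizer (T : Set H), ∀ z ∈ M0, g * z * g⁻¹ ∈ M0 := by
    intro g hg z hz
    refine Subgroup.iSup_induction (fun i : Fin p => Ns i) (C := fun z => g * z * g⁻¹ ∈ M0)
      hz ?_ ?_ ?_
    · intro i w hw
      exact Subgroup.mem_iSup_of_mem (S := fun i : Fin p => Ns i) i (hstab i g hg w hw)
    · simp
    · intro a b ha hb
      have e : g * (a * b) * g⁻¹ = g * a * g⁻¹ * (g * b * g⁻¹) := by group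
      rw [e]; exact mul_mem ha hb
  have hN0ne : Ns 0 ≠ ⊥ := by
    obtain ⟨y, hy, hy1⟩ := (Subgroup.bot_or_exists_ne_one _).resolve_left hUne
    intro e
    have h := (hmem 0 y hy.1).mpr hy
    rw [e, pow_zero] at h
    exact hy1 h
  have hM0 : M0 = Z := hirr M0 hM0Z hM0i hM0g fun e => hN0ne
    (le_bot_iff.mp (e ▸ le_iSup (fun i : Fin p => Ns i) ⟨0, hp.out.pos⟩))
  have hsum : ∀ z : Z, ∏ i : Fin p, τ i z = z ^ Nat.card U := by
    intro z
    let Θ : Z →* Z :=
      { toFun := fun z => ∏ i : Fin p, τ i z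
        map_one' := Finset.prod_eq_one fun i _ => map_one _
        map_mul' := fun a b => by simp only [map_mul, Finset.prod_mul_distrib] }
    have hz : (z : H) ∈ M0 := hM0.ge z.2
    have key : ∀ w, w ∈ M0 → ∃ hw : w ∈ Z, Θ ⟨w, hw⟩ = (⟨w, hw⟩ : Z) ^ Nat.card U := by
      intro w hw
      refine Subgroup.iSup_induction (fun i : Fin p => Ns i)
        (C := fun w => ∃ hw : w ∈ Z, Θ ⟨w, hw⟩ = (⟨w, hw⟩ : Z) ^ Nat.card U) hw ?_ ?_ ?_
      · intro i w hw
        refine ⟨hw.1, ?_⟩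
        show ∏ j : Fin p, τ j _ = _
        rw [Finset.prod_eq_single i, hτeq i _ hw]
        · intro j _ hji
          exact hτzero j i j.2 i.2 (fun e => hji (Fin.ext e)) _ hw
        · simp
      · exact ⟨Z.one_mem, by
          rw [show (⟨1, Z.one_mem⟩ : Z) = 1 from rfl, map_one, one_pow]⟩
      · rintro a b ⟨ha, ea⟩ ⟨hb, eb⟩
        refine ⟨Z.mul_mem ha hb, ?_⟩
        rw [show (⟨a * b, Z.mul_mem ha hb⟩ : Z) = ⟨a, ha⟩ * ⟨b, hb⟩ from rfl, map_mul, ea, eb,
          mul_pow]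
    obtain ⟨hw, e⟩ := key z hz
    exact e
  -- compare cardinalities
  have hC : Nat.card ↥(Z ⊓ fx x) ≤ Nat.card (Ns 0) := by
    let f : ↥(Z ⊓ fx x) → Ns 0 := fun c => ⟨τ 0 ⟨c, c.2.1⟩, hτN 0 _⟩
    refine Nat.card_le_card_of_injective f fun c c' h => ?_
    have h0 : τ 0 ⟨c, c.2.1⟩ = τ 0 ⟨c', c'.2.1⟩ := Subtype.ext (congrArg Subtype.val h :)
    set z : Z := ⟨c, c.2.1⟩ * (⟨c', c'.2.1⟩ : Z)⁻¹ with hz
    have hz0 : τ 0 z = 1 := by rw [hz, map_mul, map_inv, h0, mul_inv_cancel]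
    have hzfix : x (z : H) = z := by
      show x ((c : H) * (c' : H)⁻¹) = _
      rw [map_mul, map_inv, mem_fx.mp c.2.2, mem_fx.mp c'.2.2]
      rfl
    let xZ : Z →* Z :=
      { toFun := fun w => ⟨x w, hZi w w.2⟩
        map_one' := Subtype.ext (map_one x)
        map_mul' := fun a b => Subtype.ext (map_mul x _ _) }
    have hshift : ∀ i, xZ (τ i z) = τ (i + 1) z := by
      intro i
      show xZ (∏ d : Us i, cj d z) = ∏ d : Us (i + 1), cj d z
      rw [map_prod]
      let g : Us i → Us (i + 1) := fun d => ⟨x d, by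
        obtain ⟨u, hu, e⟩ := d.2
        refine ⟨u, hu, ?_⟩
        rw [← e]
        show (x ^ (i + 1)) u = x ((x ^ i) u)
        rw [pow_succ', MulAut.mul_apply]⟩
      have hg : Function.Bijective g := by
        refine ⟨fun a b hab => Subtype.ext (x.injective (congrArg Subtype.val hab)),
          fun d => ?_⟩
        obtain ⟨u, hu, e⟩ := d.2
        refine ⟨⟨(x ^ i) u, u, hu, rfl⟩, Subtype.ext ?_⟩
        show x ((x ^ i) u) = _
        rw [← e, ← MulAut.mul_apply, ← pow_succ']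
        rfl
      refine Fintype.prod_bijective g hg _ _ fun d => Subtype.ext ?_
      show x ((d : H) * z * (d : H)⁻¹) = x d * z * (x d)⁻¹
      rw [map_mul, map_mul, map_inv, hzfix]
    have hall : ∀ i, τ i z = 1 := by
      intro i
      induction i with
      | zero => exact hz0
      | succ i ih => rw [← hshift, ih, map_one]
    have hone : z = 1 := hpowU z (by rw [← hsum z]; exact Finset.prod_eq_one fun i _ => hall i)
    exact Subtype.ext (congrArg Subtype.val (mul_inv_eq_one.mp hone) :)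
  have h3 : Nat.card (Ns 0) * Nat.card (Ns 1) * Nat.card (Ns 2) ≤ Nat.card Z := by
    have h3p : 2 < p := by
      rcases lt_or_eq_of_le hp.out.two_le with h | h
      · exact h
      · exact absurd h.symm hp2
    have h1p : 1 < p := by omega
    let f : Ns 0 × Ns 1 × Ns 2 → Z := fun w =>
      ⟨w.1, w.1.2.1⟩ * ⟨w.2.1, w.2.1.2.1⟩ * ⟨w.2.2, w.2.2.2.1⟩
    have := Nat.card_le_card_of_injective f ?_
    · rwa [Nat.card_prod, Nat.card_prod, ← mul_assoc] at this
    intro w w' h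
    have hw : ∀ i, τ i (f w) = τ i (f w') := fun i => by rw [h]
    obtain ⟨a, b, c⟩ := w
    obtain ⟨a', b', c'⟩ := w'
    have e0 := hw 0
    have e1 := hw 1
    have e2 := hw 2
    simp only [f, map_mul] at e0 e1 e2
    rw [hτeq 0 ⟨a, a.2.1⟩ a.2, hτzero 0 1 hp.out.pos h1p (by omega) ⟨b, b.2.1⟩ b.2,
      hτzero 0 2 hp.out.pos h3p (by omega) ⟨c, c.2.1⟩ c.2, hτeq 0 ⟨a', a'.2.1⟩ a'.2,
      hτzero 0 1 hp.out.pos h1p (by omega) ⟨b', b'.2.1⟩ b'.2,
      hτzero 0 2 hp.out.pos h3p (by omega) ⟨c', c'.2.1⟩ c'.2] at e0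
    rw [hτzero 1 0 h1p hp.out.pos (by omega) ⟨a, a.2.1⟩ a.2, hτeq 1 ⟨b, b.2.1⟩ b.2,
      hτzero 1 2 h1p h3p (by omega) ⟨c, c.2.1⟩ c.2,
      hτzero 1 0 h1p hp.out.pos (by omega) ⟨a', a'.2.1⟩ a'.2, hτeq 1 ⟨b', b'.2.1⟩ b'.2,
      hτzero 1 2 h1p h3p (by omega) ⟨c', c'.2.1⟩ c'.2] at e1
    rw [hτzero 2 0 h3p hp.out.pos (by omega) ⟨a, a.2.1⟩ a.2,
      hτzero 2 1 h3p h1p (by omega) ⟨b, b.2.1⟩ b.2, hτeq 2 ⟨c, c.2.1⟩ c.2,
      hτzero 2 0 h3p hp.out.pos (by omega) ⟨a', a'.2.1⟩ a'.2,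
      hτzero 2 1 h3p h1p (by omega) ⟨b', b'.2.1⟩ b'.2, hτeq 2 ⟨c', c'.2.1⟩ c'.2] at e2
    simp only [one_mul, mul_one] at e0 e1 e2
    have inj : ∀ u v : Z, u ^ Nat.card U = v ^ Nat.card U → (u : H) = v := fun u v huv => by
      have : u * v⁻¹ = 1 := hpowU _ (by rw [mul_pow, inv_pow, huv, mul_inv_cancel])
      rw [mul_inv_eq_one.mp this]
    exact Prod.ext (Subtype.ext (inj _ _ e0))
      (Prod.ext (Subtype.ext (inj _ _ e1)) (Subtype.ext (inj _ _ e2)))
  have hNcard : ∀ i, i < p → Nat.card (Ns i) = Nat.card (Ns 0) := by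
    intro i hi
    refine (Nat.card_congr (Equiv.ofBijective
      (fun w : Ns 0 => (⟨(x ^ i) w, (hmem i _ w.2.1).mpr
        ((hmem 0 _ w.2.1).mp (by rw [pow_zero]; exact w.2))⟩ : Ns i)) ⟨?_, ?_⟩)).symm
    · exact fun a b h => Subtype.ext ((x ^ i).injective (congrArg Subtype.val h))
    · intro w
      have hinvZ : (x ^ i)⁻¹ (w : H) ∈ Z := by
        have e : (x ^ i)⁻¹ = x ^ (p - i) := by
          rw [inv_eq_iff_mul_eq_one, ← pow_add, Nat.add_sub_cancel' hi.le, hx]
        rw [e]; exact hZi.pow _ _ w.2.1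
      have h0 := (hmem i _ hinvZ).mp (by rw [MulAut.apply_inv_self]; exact w.2)
      exact ⟨⟨(x ^ i)⁻¹ w, by simpa using (hmem 0 _ hinvZ).mpr h0⟩,
        Subtype.ext (MulAut.apply_inv_self _ _ _)⟩
  have hn2 : 2 ≤ Nat.card (Ns 0) := by
    have := Subgroup.one_lt_card_iff_ne_bot (Ns 0) |>.mpr hN0ne
    omega
  have h3p : 2 < p := by
    rcases lt_or_eq_of_le hp.out.two_le with h | h
    · exact h
    · exact absurd h.symm hp2
  rw [hNcard 1 (by omega), hNcard 2 h3p] at h3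
  nlinarith [Nat.mul_le_mul hC hC]

end Cfsg.Agent.Grp.OddFix
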