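import Cfsg.Agent.Lib.Grp.OddFix.Free

/-!
For an automorphism `x` of odd prime order acting coprimely on a solvable group, the fixed points
in `[H, x]` are generated by those in the subgroups `[h, x]`.
-/

set_option linter.unusedSectionVars false
set_option linter.style.haveILetI false
set_option maxHeartbeats 800000

namespace Cfsg.Agent.Grp.OddFix

universe u

variable {H : Type u} [Group H] [Finite H] {x : MulAut H} {p : ℕ} [hp : Fact p.Prime]

section Transport

variable {H' : Type*} [Group H'] {x' : MulAut H'}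

theorem map_pow_apply (f : H' →* H) (hf : ∀ y, f (x' y) = x (f y)) (i : ℕ) (y : H') :
    f ((x' ^ i) y) = (x ^ i) (f y) := by
  induction i with
  | zero => rfl
  | succ i ih => rw [pow_succ', pow_succ', MulAut.mul_apply, MulAut.mul_apply, hf, ih]

theorem map_dd (f : H' →* H) (hf : ∀ y, f (x' y) = x (f y)) (h : H') :
    (dd x' h).map f = dd x (f h) := by
  rw [dd, MonoidHom.map_closure]
  congr 1
  ext c
  constructor
  · rintro ⟨_, ⟨i, rfl⟩, rfl⟩
    exact ⟨i, by rw [map_mul, map_inv, map_pow_apply f hf]⟩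
  · rintro ⟨i, rfl⟩
    exact ⟨_, ⟨i, rfl⟩, by rw [map_mul, map_inv, map_pow_apply f hf]⟩

end Transport

/-- The data of the reduced situation. -/
structure Setup (x : MulAut H) (p : ℕ) : Prop where
  hx : x ^ p = 1
  hp2 : p ≠ 2
  cop : (Nat.card H).Coprime p
  solv : Group.IsSolvable H
  top : comP x (⊤ : Subgroup H) = ⊤
  sub : ∀ S : Subgroup H, Inv x S → S ≠ ⊤ → comP x S ⊓ fx x ≤ gen x
  quot : ∀ W : Subgroup H, W.Normal → Inv x W → W ≠ ⊥ → W ⊓ fx x ≤ gen x → fx x ≤ gen x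

namespace Setup

variable (s : Setup x p)
include s

theorem coprime_mem_of_pow {S : Subgroup H} {y : H} (hy : y ^ p ∈ S) : y ∈ S := by
  have h : y ∈ Subgroup.zpowers (y ^ p) := by
    have hc : p.Coprime (orderOf y) := (s.cop.coprime_dvd_left (orderOf_dvd_natCard y)).symm
    obtain ⟨k, hk⟩ := exists_pow_eq_self_of_coprime hc
    exact Subgroup.mem_zpowers_iff.mpr ⟨k, by rw [zpow_natCast]; exact hk⟩
  exact (Subgroup.zpowers_le.mpr hy) h

theorem central_of_fixed {Z : Subgroup H} (hn : Z.Normal) (hf : Z ≤ fx x) :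
    Z ≤ Subgroup.center H := by
  intro z hz
  rw [Subgroup.mem_center_iff]
  have hle : comP x (⊤ : Subgroup H) ≤ Subgroup.centralizer ({z} : Set H) := by
    rw [Subgroup.closure_le]
    rintro _ ⟨g, -, i, rfl⟩
    rw [SetLike.mem_coe, Subgroup.mem_centralizer_singleton_iff]
    have hgz : g * z * g⁻¹ ∈ fx x := hf (hn.conj_mem z hz g)
    have h1 := pow_apply_fixed hgz i
    rw [map_mul, map_mul, map_inv, pow_apply_fixed (hf hz) i] at h1
    calc g⁻¹ * (x ^ i) g * z = g⁻¹ * ((x ^ i) g * z * ((x ^ i) g)⁻¹) * (x ^ i) g := by group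
      _ = g⁻¹ * (g * z * g⁻¹) * (x ^ i) g := by rw [h1]
      _ = z * (g⁻¹ * (x ^ i) g) := by group
  intro g
  exact Subgroup.mem_centralizer_singleton_iff.mp (hle (by rw [s.top]; exact Subgroup.mem_top g))

theorem comP_ne_bot {S : Subgroup H} (h : ¬ S ≤ fx x) : comP x S ≠ ⊥ := by
  intro e
  apply h
  intro y hy
  have h1 := c_mem_comP (x := x) hy 1
  rw [e, Subgroup.mem_bot, pow_one, inv_mul_eq_one] at h1
  exact h1.symm

theorem comP_inf_fx_abelian {Z : Subgroup H} [IsMulCommutative Z] (hZi : Inv x Z) :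
    comP x Z ⊓ fx x = ⊥ := by
  classical
  letI : CommGroup Z :=
    { (inferInstance : Group Z) with mul_comm := fun a b => Subtype.ext (comm_of_le a.2 b.2) }
  let ξ : ℕ → Z →* Z := fun i =>
    { toFun := fun w => ⟨(x ^ i) w, hZi.pow i w w.2⟩
      map_one' := Subtype.ext (map_one (x ^ i))
      map_mul' := fun a b => Subtype.ext (map_mul (x ^ i) _ _) }
  let τ : Z →* Z :=
    { toFun := fun z => ∏ i ∈ Finset.range p, ξ i z
      map_one' := Finset.prod_eq_one fun i _ => map_one _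
      map_mul' := fun a b => by simp only [map_mul, Finset.prod_mul_distrib] }
  have hinv : ∀ z : Z, τ (ξ 1 z) = τ z := by
    intro z
    show ∏ i ∈ Finset.range p, ξ i (ξ 1 z) = ∏ i ∈ Finset.range p, ξ i z
    have e : ∀ i, ξ i (ξ 1 z) = ξ (i + 1) z := fun i => Subtype.ext (by
      show (x ^ i) ((x ^ 1) z) = (x ^ (i + 1)) z
      rw [pow_add, MulAut.mul_apply])
    rw [Finset.prod_congr rfl fun i _ => e i]
    have h0 : ξ p z = ξ 0 z := Subtype.ext (by
      show (x ^ p) z = (x ^ 0) z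
      rw [s.hx, pow_zero])
    have h1 := Finset.prod_range_succ (fun i => ξ i z) p
    have h2 := Finset.prod_range_succ' (fun i => ξ i z) p
    rw [h1, h0] at h2
    exact (mul_right_cancel h2).symm
  have hpow : ∀ i, ∀ z : Z, τ (ξ i z) = τ z := by
    intro i
    induction i with
    | zero => intro z; congr 1
    | succ i ih =>
      intro z
      have e : ξ (i + 1) z = ξ 1 (ξ i z) := Subtype.ext (by
        show (x ^ (i + 1)) z = (x ^ 1) ((x ^ i) z)
        rw [pow_one, ← MulAut.mul_apply, ← pow_succ'])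
      rw [e, hinv, ih]
  have hker : ∀ y ∈ comP x Z, ∃ hy : y ∈ Z, τ ⟨y, hy⟩ = 1 := by
    intro y hy
    induction hy using Subgroup.closure_induction with
    | mem y hy =>
      obtain ⟨h, hh, i, rfl⟩ := hy
      refine ⟨Z.mul_mem (Z.inv_mem hh) (hZi.pow i h hh), ?_⟩
      rw [show (⟨h⁻¹ * (x ^ i) h, Z.mul_mem (Z.inv_mem hh) (hZi.pow i h hh)⟩ : Z) =
        (⟨h, hh⟩ : Z)⁻¹ * ξ i ⟨h, hh⟩ from rfl, map_mul, map_inv, hpow, inv_mul_cancel]
    | one => exact ⟨Z.one_mem, map_one τ⟩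
    | mul a b _ _ ha hb =>
      obtain ⟨ha, ea⟩ := ha
      obtain ⟨hb, eb⟩ := hb
      refine ⟨Z.mul_mem ha hb, ?_⟩
      rw [show (⟨a * b, Z.mul_mem ha hb⟩ : Z) = ⟨a, ha⟩ * ⟨b, hb⟩ from rfl, map_mul, ea, eb, one_mul]
    | inv a _ ha =>
      obtain ⟨ha, ea⟩ := ha
      refine ⟨Z.inv_mem ha, ?_⟩
      rw [show (⟨a⁻¹, Z.inv_mem ha⟩ : Z) = (⟨a, ha⟩ : Z)⁻¹ from rfl, map_inv, ea, inv_one]
  rw [Subgroup.eq_bot_iff_forall]
  rintro y ⟨hy, hf⟩
  obtain ⟨hyZ, e⟩ := hker y hy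
  have e2 : τ ⟨y, hyZ⟩ = (⟨y, hyZ⟩ : Z) ^ p := by
    show ∏ i ∈ Finset.range p, ξ i ⟨y, hyZ⟩ = _
    rw [Finset.prod_congr rfl (g := fun _ => (⟨y, hyZ⟩ : Z))
      fun i _ => Subtype.ext (pow_apply_fixed hf i), Finset.prod_const, Finset.card_range]
  rw [e] at e2
  have : y ^ p ∈ (⊥ : Subgroup H) := by
    rw [Subgroup.mem_bot]; exact (congrArg Subtype.val e2).symm
  exact Subgroup.mem_bot.mp (s.coprime_mem_of_pow this)

theorem center_fixed (h : ¬ fx x ≤ gen x) : Subgroup.center H ≤ fx x := by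
  by_contra hZ
  have hZi : Inv x (Subgroup.center H) := fun y hy => by
    rw [Subgroup.mem_center_iff] at hy ⊢
    intro g
    obtain ⟨g', rfl⟩ := x.surjective g
    rw [← map_mul, hy, map_mul]
  refine h (s.quot (comP x (Subgroup.center H)) ⟨fun y hy g => ?_⟩ (inv_comP x _)
    (s.comP_ne_bot hZ) (by rw [s.comP_inf_fx_abelian hZi]; exact bot_le))
  rw [Subgroup.mem_center_iff.mp (comP_le hZi hy) g, mul_inv_cancel_right]
  exact hy

/-- An abelian normal subgroup moved by `x` suffices, if the proper invariant subgroups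
containing it generate. -/
theorem of_generated {Z : Subgroup H} [IsMulCommutative Z] (hn : Z.Normal) (hi : Inv x Z)
    (hZtop : Z ≠ ⊤) (hmove : ¬ Z ≤ fx x)
    (hgen : Subgroup.closure {c : H | ∃ S : Subgroup H, Inv x S ∧ Z ≤ S ∧ S ≠ ⊤ ∧
      ∃ h ∈ S, ∃ i : ℕ, c = h⁻¹ * (x ^ i) h} = ⊤) : fx x ≤ gen x := by
  classical
  set pieces : Set H := {w | w ∈ Z ∧ ∃ S : Subgroup H, Inv x S ∧ Z ≤ S ∧ S ≠ ⊤ ∧ w ∈ comP x S}
  set W := Subgroup.closure pieces with hW
  have hWZ : W ≤ Z := (Subgroup.closure_le _).mpr fun w hw => hw.1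
  have hWi : Inv x W := inv_closure fun w ⟨hwZ, S, hS, hZS, hS', hw⟩ =>
    Subgroup.subset_closure ⟨hi w hwZ, S, hS, hZS, hS', inv_comP x S w hw⟩
  have hconj : ∀ g : H, ∀ w ∈ W, g * w * g⁻¹ ∈ W := by
    intro g
    have hg : g ∈ (⊤ : Subgroup H) := Subgroup.mem_top g
    rw [← hgen] at hg
    induction hg using Subgroup.closure_induction with
    | mem c hc =>
      obtain ⟨S, hS, hZS, hS', h, hh, i, rfl⟩ := hc
      set g := h⁻¹ * (x ^ i) h
      intro w hw
      induction hw using Subgroup.closure_induction with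
      | mem w hw =>
        obtain ⟨hwZ, S₂, hS₂, hZS₂, hS₂', hw⟩ := hw
        have hgc : g ∈ comP x S := c_mem_comP hh i
        have hk : g * (w * g⁻¹ * w⁻¹) ∈ comP x S :=
          mul_mem hgc (comP_conj (hZS hwZ) (inv_mem hgc))
        have hkZ : g * w * g⁻¹ * w⁻¹ ∈ Z := Z.mul_mem (hn.conj_mem w hwZ g) (Z.inv_mem hwZ)
        have h1 : g * w * g⁻¹ * w⁻¹ ∈ W := Subgroup.subset_closure
          ⟨hkZ, S, hS, hZS, hS', by simpa [mul_assoc] using hk⟩
        have h2 : w ∈ W := Subgroup.subset_closure ⟨hwZ, S₂, hS₂, hZS₂, hS₂', hw⟩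
        have := W.mul_mem h1 h2
        rwa [inv_mul_cancel_right] at this
      | one => simp
      | mul a b _ _ ha hb =>
        have e : g * (a * b) * g⁻¹ = g * a * g⁻¹ * (g * b * g⁻¹) := by group
        rw [e]; exact mul_mem ha hb
      | inv a _ ha =>
        have e : g * a⁻¹ * g⁻¹ = (g * a * g⁻¹)⁻¹ := by group
        rw [e]; exact inv_mem ha
    | one => simp
    | mul a b _ _ ha hb =>
      intro w hw
      have e : a * b * w * (a * b)⁻¹ = a * (b * w * b⁻¹) * a⁻¹ := by group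
      rw [e]; exact ha _ (hb w hw)
    | inv a _ ha =>
      intro w hw
      have hfin : Function.Surjective fun v : W => (⟨a * v * a⁻¹, ha v v.2⟩ : W) :=
        Finite.injective_iff_surjective.mp fun u v huv => Subtype.ext (by
          simpa using congrArg Subtype.val huv)
      obtain ⟨v, hv⟩ := hfin ⟨w, hw⟩
      have : a⁻¹ * w * a⁻¹⁻¹ = v := by
        have hv' : a * (v : H) * a⁻¹ = w := congrArg Subtype.val hv
        rw [← hv']; group
      rw [this]; exact v.2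
  have hne : W ≠ ⊥ := by
    intro e
    refine s.comP_ne_bot hmove (le_bot_iff.mp (e ▸ fun c hc => ?_))
    exact Subgroup.subset_closure ⟨comP_le hi hc, Z, hi, le_rfl, hZtop, hc⟩
  refine s.quot W ⟨fun w hw g => hconj g w hw⟩ hWi hne ?_
  -- fixed points of `W`
  letI : CommGroup Z :=
    { (inferInstance : Group Z) with mul_comm := fun a b => Subtype.ext (comm_of_le a.2 b.2) }
  let ξ : ℕ → Z →* Z := fun i =>
    { toFun := fun w => ⟨(x ^ i) w, hi.pow i w w.2⟩
      map_one' := Subtype.ext (map_one (x ^ i))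
      map_mul' := fun a b => Subtype.ext (map_mul (x ^ i) _ _) }
  let τ : Z →* Z :=
    { toFun := fun z => ∏ i ∈ Finset.range p, ξ i z
      map_one' := Finset.prod_eq_one fun i _ => map_one _
      map_mul' := fun a b => by simp only [map_mul, Finset.prod_mul_distrib] }
  have hτfix : ∀ z : Z, x (τ z : H) = τ z := by
    intro z
    have e : ξ 1 (τ z) = τ z := by
      show ξ 1 (∏ i ∈ Finset.range p, ξ i z) = ∏ i ∈ Finset.range p, ξ i z
      rw [map_prod]
      have e : ∀ i, ξ 1 (ξ i z) = ξ (i + 1) z := fun i => Subtype.ext (by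
        show (x ^ 1) ((x ^ i) z) = (x ^ (i + 1)) z
        rw [pow_one, ← MulAut.mul_apply, ← pow_succ'])
      rw [Finset.prod_congr rfl fun i _ => e i]
      have h0 : ξ p z = ξ 0 z := Subtype.ext (by
        show (x ^ p) z = (x ^ 0) z
        rw [s.hx, pow_zero])
      have h1 := Finset.prod_range_succ (fun i => ξ i z) p
      have h2 := Finset.prod_range_succ' (fun i => ξ i z) p
      rw [h1, h0] at h2
      exact (mul_right_cancel h2).symm
    have := congrArg Subtype.val e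
    rwa [show ((ξ 1 (τ z) : Z) : H) = (x ^ 1) (τ z : H) from rfl, pow_one] at this
  have key : ∀ w ∈ W, ∃ hw : w ∈ Z, (τ ⟨w, hw⟩ : H) ∈ gen x := by
    intro w hw
    induction hw using Subgroup.closure_induction with
    | mem w hw =>
      obtain ⟨hwZ, S, hS, hZS, hS', hw⟩ := hw
      refine ⟨hwZ, s.sub S hS hS' ⟨?_, hτfix _⟩⟩
      have : ∏ i ∈ Finset.range p, ξ i ⟨w, hwZ⟩ ∈ (comP x S).subgroupOf Z :=
        Subgroup.prod_mem _ fun i _ => (inv_comP x S).pow i w hw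
      exact this
    | one =>
      refine ⟨Z.one_mem, ?_⟩
      rw [show (⟨1, Z.one_mem⟩ : Z) = 1 from rfl, map_one]; exact one_mem _
    | mul a b _ _ ha hb =>
      obtain ⟨ha, ea⟩ := ha
      obtain ⟨hb, eb⟩ := hb
      refine ⟨Z.mul_mem ha hb, ?_⟩
      rw [show (⟨a * b, Z.mul_mem ha hb⟩ : Z) = ⟨a, ha⟩ * ⟨b, hb⟩ from rfl, map_mul]
      exact mul_mem ea eb
    | inv a _ ha =>
      obtain ⟨ha, ea⟩ := ha
      refine ⟨Z.inv_mem ha, ?_⟩
      rw [show (⟨a⁻¹, Z.inv_mem ha⟩ : Z) = (⟨a, ha⟩ : Z)⁻¹ from rfl, map_inv]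
      exact inv_mem ea
  rintro w ⟨hw, hf⟩
  obtain ⟨hwZ, e⟩ := key w hw
  have e2 : τ ⟨w, hwZ⟩ = (⟨w, hwZ⟩ : Z) ^ p := by
    show ∏ i ∈ Finset.range p, ξ i ⟨w, hwZ⟩ = _
    rw [Finset.prod_congr rfl (g := fun _ => (⟨w, hwZ⟩ : Z))
      fun i _ => Subtype.ext (pow_apply_fixed hf i), Finset.prod_const, Finset.card_range]
  rw [e2] at e
  exact s.coprime_mem_of_pow e

/-- The commutator subgroups of the invariant Sylow subgroups generate. -/
theorem sylow_generate : Subgroup.closure {c : H | ∃ (q : ℕ) (_ : Fact q.Prime) (Q : Sylow q H),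
    Inv x (Q : Subgroup H) ∧ ∃ h ∈ (Q : Subgroup H), ∃ i : ℕ, c = h⁻¹ * (x ^ i) h} = ⊤ := by
  set gens := {c : H | ∃ (q : ℕ) (_ : Fact q.Prime) (Q : Sylow q H),
    Inv x (Q : Subgroup H) ∧ ∃ h ∈ (Q : Subgroup H), ∃ i : ℕ, c = h⁻¹ * (x ^ i) h} with hgens
  set T := Subgroup.closure gens with hT
  have hTi : Inv x T := inv_closure fun c ⟨q, hq, Q, hQ, h, hh, i, e⟩ => by
    rw [e, apply_c]
    exact mul_mem (inv_mem (Subgroup.subset_closure ⟨q, hq, Q, hQ, h, hh, 1, rfl⟩))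
      (Subgroup.subset_closure ⟨q, hq, Q, hQ, h, hh, i + 1, rfl⟩)
  have hcomP : ∀ (q : ℕ) (_ : Fact q.Prime) (Q : Sylow q H), Inv x (Q : Subgroup H) →
      comP x (Q : Subgroup H) ≤ T := fun q hq Q hQ => (Subgroup.closure_le _).mpr
    fun c ⟨h, hh, i, e⟩ => Subgroup.subset_closure ⟨q, hq, Q, hQ, h, hh, i, e⟩
  have hfixN : fx x ≤ Subgroup.normalizer (T : Set H) := by
    intro f hf
    have h1 : ∀ f ∈ fx x, ∀ y ∈ T, f * y * f⁻¹ ∈ T := by
      intro f hf y hy
      induction hy using Subgroup.closure_induction with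
      | mem y hy =>
        obtain ⟨q, hq, Q, hQ, h, hh, i, rfl⟩ := hy
        refine Subgroup.subset_closure ⟨q, hq, MulAut.conj f • Q, ?_, f * h * f⁻¹, ⟨h, hh, rfl⟩, i,
          ?_⟩
        · rintro _ ⟨z, hz, rfl⟩
          refine ⟨x z, hQ z hz, ?_⟩
          show f * x z * f⁻¹ = x (f * z * f⁻¹)
          rw [map_mul, map_mul, map_inv, mem_fx.mp hf]
        · rw [map_mul, map_mul, map_inv, pow_apply_fixed hf i]; group
      | one => simp
      | mul a b _ _ ha hb =>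
        have e : f * (a * b) * f⁻¹ = f * a * f⁻¹ * (f * b * f⁻¹) := by group
        rw [e]; exact mul_mem ha hb
      | inv a _ ha =>
        have e : f * a⁻¹ * f⁻¹ = (f * a * f⁻¹)⁻¹ := by group
        rw [e]; exact inv_mem ha
    rw [Subgroup.mem_normalizer_iff]
    refine fun y => ⟨h1 f hf y, fun hy => ?_⟩
    have := h1 f⁻¹ ((fx x).inv_mem hf) _ hy
    simpa [mul_assoc] using this
  have hQle : ∀ (q : ℕ) (_ : Fact q.Prime) (Q : Sylow q H), Inv x (Q : Subgroup H) →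
      (Q : Subgroup H) ≤ T ⊔ fx x := by
    intro q hq Q hQ y hy
    obtain ⟨k, hk, -, hf⟩ := exists_fix_comP s.hx s.cop hQ hy
    have : y = y * k * k⁻¹ := by group
    rw [this]
    exact mul_mem (Subgroup.mem_sup_right hf)
      (inv_mem (Subgroup.mem_sup_left (hcomP q hq Q hQ hk)))
  have hsup : T ⊔ fx x = ⊤ := by
    refine Subgroup.eq_top_of_card_eq _ (Nat.dvd_antisymm (Subgroup.card_subgroup_dvd_card _) ?_)
    rw [Nat.dvd_iff_prime_pow_dvd_dvd]
    intro q k hq hk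
    have : Fact q.Prime := ⟨hq⟩
    obtain ⟨Q, hQ⟩ := exists_inv_sylow (x := x) s.hx s.cop q
    refine dvd_trans ?_ (Subgroup.card_dvd_of_le (hQle q ‹_› Q hQ))
    rw [Q.card_eq_multiplicity]
    exact Nat.pow_dvd_pow q ((hq.pow_dvd_iff_le_factorization Nat.card_pos.ne').mp hk)
  have : Subgroup.normalizer (T : Set H) = ⊤ :=
    top_le_iff.mp (hsup ▸ sup_le Subgroup.le_normalizer hfixN)
  have hTn : T.Normal := Subgroup.normalizer_eq_top_iff.mp this
  rw [eq_top_iff, ← s.top, Subgroup.closure_le]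
  rintro _ ⟨h, -, i, rfl⟩
  have hh : h ∈ ((T ⊔ fx x : Subgroup H) : Set H) := by rw [hsup]; trivial
  rw [Subgroup.normal_mul] at hh
  obtain ⟨t, ht, f, hf, rfl⟩ := hh
  have e : (t * f)⁻¹ * (x ^ i) (t * f) = f⁻¹ * (t⁻¹ * (x ^ i) t) * f⁻¹⁻¹ := by
    rw [map_mul, pow_apply_fixed hf i]; group
  rw [e]
  exact hTn.conj_mem _ (T.mul_mem (T.inv_mem ht) (hTi.pow i t ht)) f⁻¹

end Setup

/-- the invariant subgroup generated by the orbit of `h` -/
abbrev orb (x : MulAut H) (h : H) : Subgroup H := Subgroup.closure {y | ∃ i : ℕ, y = (x ^ i) h}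

theorem inv_orb (x : MulAut H) (h : H) : Inv x (orb x h) := inv_closure fun y ⟨i, e⟩ =>
  Subgroup.subset_closure ⟨i + 1, by rw [e, pow_succ', MulAut.mul_apply]⟩

theorem mem_orb (x : MulAut H) (h : H) : h ∈ orb x h := Subgroup.subset_closure ⟨0, rfl⟩

/-- In a `q`-group generated by the orbit of `h` and equal to its commutator subgroup with `x`,
`[h, x]` is everything. -/
theorem dd_eq_of_orb {q : ℕ} [Fact q.Prime] {L : Subgroup H} (hL : IsPGroup q L)
    (hLi : Inv x L) (hc : comP x L = L) {h : H} (ho : orb x h = L) : dd x h = L := by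
  have hh : h ∈ L := ho ▸ mem_orb x h
  have hle : dd x h ≤ L := (dd_le_comP hh).trans hc.le
  by_contra hne
  have hlt : (dd x h).subgroupOf L ≠ ⊤ := fun e =>
    hne (le_antisymm hle (Subgroup.subgroupOf_eq_top.mp e))
  obtain ⟨M, hM, hDM⟩ := (eq_top_or_exists_le_coatom ((dd x h).subgroupOf L)).resolve_left hlt
  haveI : Group.IsNilpotent L := hL.isNilpotent
  haveI hMn : M.Normal := Subgroup.NormalizerCondition.normal_of_coatom M
    Group.normalizerCondition_of_isNilpotent hM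
  have key : ∀ y, y ∈ orb x h → ∃ hy : y ∈ L, ∀ i : ℕ,
      (⟨y⁻¹ * (x ^ i) y, L.mul_mem (L.inv_mem hy) (hLi.pow i y hy)⟩ : L) ∈ M := by
    intro y hy
    induction hy using Subgroup.closure_induction with
    | mem y hy =>
      obtain ⟨j, rfl⟩ := hy
      refine ⟨hLi.pow j h hh, fun i => hDM ?_⟩
      show ((x ^ j) h)⁻¹ * (x ^ i) ((x ^ j) h) ∈ dd x h
      have e : ((x ^ j) h)⁻¹ * (x ^ i) ((x ^ j) h) = (x ^ j) (h⁻¹ * (x ^ i) h) := by
        rw [map_mul, map_inv, ← MulAut.mul_apply, ← MulAut.mul_apply, ← pow_add, ← pow_add,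
          add_comm]
      rw [e]
      exact (inv_dd x h).pow j _ (c_mem_dd x h i)
    | one => exact ⟨L.one_mem, fun i => by
        convert M.one_mem using 1
        exact Subtype.ext (by simp)⟩
    | mul a b _ _ ha hb =>
      obtain ⟨ha, ea⟩ := ha
      obtain ⟨hb, eb⟩ := hb
      refine ⟨L.mul_mem ha hb, fun i => ?_⟩
      have h1 := M.mul_mem (hMn.conj_mem _ (ea i) (⟨b, hb⟩ : L)⁻¹) (eb i)
      convert h1 using 1
      refine Subtype.ext ?_
      show (a * b)⁻¹ * (x ^ i) (a * b) =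
        b⁻¹ * (a⁻¹ * (x ^ i) a) * b⁻¹⁻¹ * (b⁻¹ * (x ^ i) b)
      rw [map_mul]; group
    | inv a _ ha =>
      obtain ⟨ha, ea⟩ := ha
      refine ⟨L.inv_mem ha, fun i => ?_⟩
      have h1 := hMn.conj_mem _ (M.inv_mem (ea i)) (⟨a, ha⟩ : L)
      convert h1 using 1
      refine Subtype.ext ?_
      show a⁻¹⁻¹ * (x ^ i) a⁻¹ = a * (a⁻¹ * (x ^ i) a)⁻¹ * a⁻¹
      rw [map_inv]; group
  refine hM.1 (eq_top_iff.mpr fun z _ => ?_)
  have hz : (z : H) ∈ comP x L := by rw [hc]; exact z.2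
  have : ∃ hz : (z : H) ∈ L, (⟨z, hz⟩ : L) ∈ M := by
    refine Subgroup.closure_induction (p := fun w _ => ∃ hw : w ∈ L, (⟨w, hw⟩ : L) ∈ M)
      ?_ ?_ ?_ ?_ hz
    · rintro _ ⟨g, hg, i, rfl⟩
      obtain ⟨hg', e⟩ := key g (by rw [ho]; exact hg)
      exact ⟨_, e i⟩
    · exact ⟨L.one_mem, M.one_mem⟩
    · rintro a b _ _ ⟨ha, ea⟩ ⟨hb, eb⟩; exact ⟨L.mul_mem ha hb, M.mul_mem ea eb⟩
    · rintro a _ ⟨ha, ea⟩; exact ⟨L.inv_mem ha, M.inv_mem ea⟩
  obtain ⟨_, e⟩ := this
  exact e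

end Cfsg.Agent.Grp.OddFix
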